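import Mathlib
import Groth.Agent.FlatRes.FibreFree

/-!
Tools for the fibrewise criterion of flatness: flatness of maps of fibres, descent along faithfully flat
maps, and epimorphisms.
-/

universe u

set_option linter.style.haveILetI false

open TensorProduct

namespace Groth.Agent.FibCrit

/-- Flatness over `A` descends along a faithfully flat map `B → B'` of `A`-algebras. -/
theorem flat_descent {A B B' N : Type u} [CommRing A] [CommRing B] [CommRing B'] [Algebra A B] [Algebra B B']
    [Algebra A B'] [IsScalarTower A B B'] [AddCommGroup N] [Module B N] [Module A N] [IsScalarTower A B N]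
    [Module.FaithfullyFlat B B'] [Module.Flat A (B' ⊗[B] N)] : Module.Flat A N := by
  rw [Module.Flat.iff_lTensor_preserves_injective_linearMap]
  intro X Y _ _ _ _ f hf
  let e : ∀ (Z : Type u) [AddCommGroup Z] [Module A Z],
      (B' ⊗[B] N) ⊗[A] Z ≃ₗ[B] B' ⊗[B] (N ⊗[A] Z) := fun Z _ _ => AlgebraTensorModule.assoc A B B B' N Z
  have hc : ∀ z, e Y (f.lTensor (B' ⊗[B] N) z) = (AlgebraTensorModule.lTensor B N f).lTensor B' (e X z) := by
    intro z
    induction z with
    | zero => simp
    | tmul a x =>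
      induction a with
      | zero => simp
      | tmul s m => simp [e]
      | add a b ha hb => simp only [add_tmul, map_add, ha, hb]
    | add a b ha hb => simp only [map_add, ha, hb]
  refine (Module.FaithfullyFlat.lTensor_injective_iff_injective B B' (AlgebraTensorModule.lTensor B N f)).1 ?_
  intro a b hab
  obtain ⟨a, rfl⟩ := (e X).surjective a
  obtain ⟨b, rfl⟩ := (e X).surjective b
  rw [← hc, ← hc] at hab
  rw [Module.Flat.lTensor_preserves_injective_linearMap f hf ((e Y).injective hab)]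

/-- An algebra is an epimorphism as soon as the elements commuting with it generate it. -/
theorem one_tmul_inv {S B : Type u} [CommRing S] [CommRing B] [Algebra S B] {w v : B} (hwv : w * v = 1)
    (hw : (1 : B) ⊗ₜ[S] w = w ⊗ₜ 1) : (1 : B) ⊗ₜ[S] v = v ⊗ₜ 1 := by
  calc (1 : B) ⊗ₜ[S] v = ((1 : B) ⊗ₜ[S] v) * ((w * v) ⊗ₜ[S] 1) := by rw [hwv, ← Algebra.TensorProduct.one_def, mul_one]
    _ = ((1 : B) ⊗ₜ[S] v) * ((v ⊗ₜ[S] 1) * (w ⊗ₜ[S] 1)) := by
        rw [Algebra.TensorProduct.tmul_mul_tmul v w (1 : B) 1, mul_comm w, mul_one]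
    _ = ((1 : B) ⊗ₜ[S] v) * ((v ⊗ₜ[S] 1) * ((1 : B) ⊗ₜ[S] w)) := by rw [hw]
    _ = v ⊗ₜ[S] 1 := by
        rw [Algebra.TensorProduct.tmul_mul_tmul, Algebra.TensorProduct.tmul_mul_tmul, one_mul, mul_one, one_mul,
          mul_comm v w, hwv]

/-- A tensor product of two localisations is an epimorphism over a ring through which both factor. -/
theorem isEpi_tensor {A₀ A' S₀' S : Type u} [CommRing A₀] [CommRing A'] [CommRing S₀'] [CommRing S]
    [Algebra A₀ A'] [Algebra A₀ S₀'] [Algebra S (A' ⊗[A₀] S₀')]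
    (hA : ∀ a : A', ∃ w : A', IsUnit w ∧
      algebraMap A' (A' ⊗[A₀] S₀') w ∈ Set.range (algebraMap S (A' ⊗[A₀] S₀')) ∧
      algebraMap A' (A' ⊗[A₀] S₀') (a * w) ∈ Set.range (algebraMap S (A' ⊗[A₀] S₀')))
    (hS : ∀ s : S₀', ∃ w : S₀', IsUnit w ∧
      (1 : A') ⊗ₜ[A₀] w ∈ Set.range (algebraMap S (A' ⊗[A₀] S₀')) ∧
      (1 : A') ⊗ₜ[A₀] (s * w) ∈ Set.range (algebraMap S (A' ⊗[A₀] S₀'))) :
    Algebra.IsEpi S (A' ⊗[A₀] S₀') := by
  let B := A' ⊗[A₀] S₀'
  rw [Algebra.isEpi_iff_forall_one_tmul_eq]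
  have hrange : ∀ b ∈ Set.range (algebraMap S B), (1 : B) ⊗ₜ[S] b = b ⊗ₜ 1 := by
    rintro _ ⟨s, rfl⟩
    rw [Algebra.algebraMap_eq_smul_one, smul_tmul]
  have hmul : ∀ b c : B, (1 : B) ⊗ₜ[S] b = b ⊗ₜ 1 → (1 : B) ⊗ₜ[S] c = c ⊗ₜ 1 →
      (1 : B) ⊗ₜ[S] (b * c) = (b * c) ⊗ₜ 1 := fun b c hb hc => by
    have h := congrArg₂ (· * ·) hb hc
    simpa only [Algebra.TensorProduct.tmul_mul_tmul, mul_one, one_mul] using h
  have hdiv : ∀ b w : B, IsUnit w → w ∈ Set.range (algebraMap S B) → b * w ∈ Set.range (algebraMap S B) →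
      (1 : B) ⊗ₜ[S] b = b ⊗ₜ 1 := by
    intro b w hw hwr hbw
    obtain ⟨v, hv⟩ := hw.exists_right_inv
    have := hmul _ _ (hrange _ hbw) (one_tmul_inv hv (hrange _ hwr))
    rwa [mul_assoc, hv, mul_one] at this
  intro b
  induction b with
  | zero => simp
  | add b c hb hc => rw [tmul_add, add_tmul, hb, hc]
  | tmul a s =>
    rw [show a ⊗ₜ[A₀] s = (a ⊗ₜ[A₀] 1) * ((1 : A') ⊗ₜ[A₀] s) by
      rw [Algebra.TensorProduct.tmul_mul_tmul, mul_one, one_mul]]
    refine hmul _ _ ?_ ?_
    · obtain ⟨w, hw, hwr, hawr⟩ := hA a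
      exact hdiv _ _ (hw.map (algebraMap A' B)) hwr (by rw [map_mul] at hawr; exact hawr)
    · obtain ⟨w, hw, hwr, hswr⟩ := hS s
      refine hdiv _ _ (hw.map (Algebra.TensorProduct.includeRight : S₀' →ₐ[A₀] B)) hwr ?_
      change (1 : A') ⊗ₜ[A₀] s * (1 : A') ⊗ₜ[A₀] w ∈ _
      rw [Algebra.TensorProduct.tmul_mul_tmul, one_mul]
      exact hswr

/-- A module over an epimorphic algebra which is flat over the base is flat over the algebra. -/
theorem flat_of_isEpi {S B Z : Type u} [CommRing S] [CommRing B] [Algebra S B] [Algebra.IsEpi S B]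
    [AddCommGroup Z] [Module B Z] [Module S Z] [IsScalarTower S B Z] [Module.Flat S Z] : Module.Flat B Z := by
  rw [Module.Flat.iff_lTensor_preserves_injective_linearMap]
  intro X Y _ _ _ _ f hf
  letI : Module S X := Module.compHom X (algebraMap S B)
  haveI : IsScalarTower S B X := IsScalarTower.of_algebraMap_smul fun _ _ => rfl
  letI : Module S Y := Module.compHom Y (algebraMap S B)
  haveI : IsScalarTower S B Y := IsScalarTower.of_algebraMap_smul fun _ _ => rfl
  let e : ∀ (W : Type u) [AddCommGroup W] [Module S W] [Module B W] [IsScalarTower S B W],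
      Z ⊗[S] W ≃ₗ[B] Z ⊗[B] W := fun W _ _ _ _ =>
    (AlgebraTensorModule.cancelBaseChange S B B Z W).symm ≪≫ₗ
      AlgebraTensorModule.congr (LinearEquiv.refl B Z) (TensorProduct.lid' S B W)
  have hc : ∀ z, e Y ((f.restrictScalars S).lTensor Z z) = f.lTensor Z (e X z) := by
    intro z
    induction z with
    | zero => simp
    | tmul a x => simp [e, TensorProduct.lid'_apply_tmul]
    | add a b ha hb => simp only [map_add, ha, hb]
  have h1 := Module.Flat.lTensor_preserves_injective_linearMap (M := Z) (f.restrictScalars S) hf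
  intro a b hab
  obtain ⟨a, rfl⟩ := (e X).surjective a
  obtain ⟨b, rfl⟩ := (e X).surjective b
  rw [← hc, ← hc] at hab
  rw [h1 ((e Y).injective hab)]

/-- A quotient by an extended ideal is a pushout. -/
theorem isPushout_quot {A B : Type u} [CommRing A] [CommRing B] [Algebra A B] (I : Ideal A) {J : Ideal B}
    (hJ : J = I.map (algebraMap A B)) [Algebra (A ⧸ I) (B ⧸ J)] [IsScalarTower A (A ⧸ I) (B ⧸ J)] :
    Algebra.IsPushout A (A ⧸ I) B (B ⧸ J) := by
  subst hJ
  refine Algebra.IsPushout.symm ?_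
  refine ⟨IsBaseChange.of_equiv (Algebra.TensorProduct.quotIdealMapEquivTensorQuot B I).symm.toLinearEquiv fun x => ?_⟩
  obtain ⟨a, rfl⟩ := Ideal.Quotient.mk_surjective x
  change (Algebra.TensorProduct.quotIdealMapEquivTensorQuot B I).symm ((1 : B) ⊗ₜ[A] (Ideal.Quotient.mk I a)) = _
  rw [Algebra.TensorProduct.quotIdealMapEquivTensorQuot_symm_tmul]
  change _ = algebraMap (A ⧸ I) (B ⧸ _) (algebraMap A (A ⧸ I) a)
  rw [← IsScalarTower.algebraMap_apply, ← Algebra.algebraMap_eq_smul_one]
  rfl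

/-- Flatness of maps of fibres: if `S` is flat over `A ⊗_{A₀} S₀` and `K₀ → K` is flat, the induced map of fibres
`K₀ ⊗_{A₀} S₀ → K ⊗_A S` is flat. -/
theorem flat_fibre {A₀ A S₀ S K₀ K B F G : Type u} [CommRing A₀] [CommRing A] [CommRing S₀] [CommRing S]
    [CommRing K₀] [CommRing K] [CommRing B] [CommRing F] [CommRing G]
    [Algebra A₀ A] [Algebra A₀ S₀] [Algebra A₀ K₀] [Algebra A₀ K] [Algebra K₀ K] [IsScalarTower A₀ K₀ K]
    [Algebra A K] [IsScalarTower A₀ A K]
    [Algebra A S] [Algebra S₀ S] [Algebra A₀ S] [IsScalarTower A₀ A S] [IsScalarTower A₀ S₀ S]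
    [Algebra A B] [Algebra S₀ B] [Algebra A₀ B] [IsScalarTower A₀ A B] [IsScalarTower A₀ S₀ B]
    [Algebra.IsPushout A₀ A S₀ B] [Algebra B S] [IsScalarTower A B S] [IsScalarTower S₀ B S]
    [Algebra K₀ F] [Algebra S₀ F] [Algebra A₀ F] [IsScalarTower A₀ K₀ F] [IsScalarTower A₀ S₀ F]
    [Algebra.IsPushout A₀ K₀ S₀ F]
    [Algebra K G] [Algebra S G] [Algebra A G] [IsScalarTower A K G] [IsScalarTower A S G]
    [Algebra.IsPushout A K S G]
    [Algebra F G] (hK : ∀ k, algebraMap F G (algebraMap K₀ F k) = algebraMap K G (algebraMap K₀ K k))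
    (hS : ∀ s, algebraMap F G (algebraMap S₀ F s) = algebraMap S G (algebraMap S₀ S s))
    [Module.Flat K₀ K] [Module.Flat B S] : Module.Flat F G := by
  let H := K ⊗[A] B
  letI : Algebra S₀ H := ((Algebra.TensorProduct.includeRight : B →ₐ[A] H).toRingHom.comp (algebraMap S₀ B)).toAlgebra
  letI : Algebra B H := (Algebra.TensorProduct.includeRight : B →ₐ[A] H).toRingHom.toAlgebra
  haveI : IsScalarTower A B H := IsScalarTower.of_algebraMap_eq fun a =>
    ((Algebra.TensorProduct.includeRight : B →ₐ[A] H).commutes a).symm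
  haveI : IsScalarTower S₀ B H := IsScalarTower.of_algebraMap_eq fun _ => rfl
  haveI : IsScalarTower A₀ K H := IsScalarTower.of_algebraMap_eq fun _ => rfl
  haveI : IsScalarTower A₀ A H := IsScalarTower.of_algebraMap_eq fun a => by
    rw [IsScalarTower.algebraMap_apply A₀ K H, IsScalarTower.algebraMap_apply A₀ A K,
      ← IsScalarTower.algebraMap_apply A K H]
  haveI : IsScalarTower A₀ S₀ H := IsScalarTower.of_algebraMap_eq fun a => by
    rw [IsScalarTower.algebraMap_apply S₀ B H, ← IsScalarTower.algebraMap_apply A₀ S₀ B,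
      IsScalarTower.algebraMap_apply A₀ A B, ← IsScalarTower.algebraMap_apply A B H,
      ← IsScalarTower.algebraMap_apply A₀ A H]
  haveI : IsScalarTower A₀ B H := IsScalarTower.of_algebraMap_eq fun a => by
    rw [IsScalarTower.algebraMap_apply A₀ S₀ B, ← IsScalarTower.algebraMap_apply S₀ B H,
      ← IsScalarTower.algebraMap_apply A₀ S₀ H]
  haveI : Algebra.IsPushout A K B H := TensorProduct.isPushout
  haveI : Algebra.IsPushout A₀ K S₀ H :=
    ((Algebra.IsPushout.comp_iff A₀ A S₀ B (T := K) (T' := H)).2 inferInstance)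
  let i : F →ₐ[A₀] H := Algebra.pushoutDesc F ((Algebra.ofId K H).restrictScalars A₀ |>.comp
      (IsScalarTower.toAlgHom A₀ K₀ K)) (IsScalarTower.toAlgHom A₀ S₀ H) fun _ _ => mul_comm _ _
  letI : Algebra F H := i.toRingHom.toAlgebra
  haveI : IsScalarTower K₀ F H := IsScalarTower.of_algebraMap_eq fun k =>
    Eq.symm (show i _ = _ from (Algebra.pushoutDesc_left (R := A₀) (R' := S₀) _ _ _ _ k))
  haveI : IsScalarTower S₀ F H := IsScalarTower.of_algebraMap_eq fun k =>
    Eq.symm (show i _ = _ from (Algebra.pushoutDesc_right (R := A₀) (S := K₀) _ _ _ _ k))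
  haveI : IsScalarTower A₀ K₀ H := IsScalarTower.of_algebraMap_eq fun a => by
    rw [IsScalarTower.algebraMap_apply K₀ K H, ← IsScalarTower.algebraMap_apply A₀ K₀ K,
      ← IsScalarTower.algebraMap_apply A₀ K H]
  haveI : Algebra.IsPushout K₀ K F H := (Algebra.IsPushout.comp_iff A₀ K₀ S₀ F (T := K) (T' := H)).1 inferInstance
  haveI : Algebra.IsPushout K₀ F K H := Algebra.IsPushout.symm inferInstance
  haveI : Module.Flat F H := Module.Flat.of_linearEquiv (Algebra.IsPushout.equiv K₀ F K H).symm.toLinearEquiv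
  -- `H → G`
  letI : Algebra B G := ((algebraMap S G).comp (algebraMap B S)).toAlgebra
  haveI : IsScalarTower B S G := IsScalarTower.of_algebraMap_eq fun _ => rfl
  haveI : IsScalarTower A B G := IsScalarTower.of_algebraMap_eq fun a => by
    rw [IsScalarTower.algebraMap_apply B S G, ← IsScalarTower.algebraMap_apply A B S,
      ← IsScalarTower.algebraMap_apply A S G]
  let j : H →ₐ[A] G := Algebra.TensorProduct.lift ((Algebra.ofId K G).restrictScalars A)
    (IsScalarTower.toAlgHom A B G) fun _ _ => Commute.all _ _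
  letI : Algebra H G := j.toRingHom.toAlgebra
  haveI : IsScalarTower K H G := IsScalarTower.of_algebraMap_eq fun k => by
    change _ = j (k ⊗ₜ[A] (1 : B))
    rw [Algebra.TensorProduct.lift_tmul, map_one]; simp
  haveI : IsScalarTower B H G := IsScalarTower.of_algebraMap_eq fun b => by
    change _ = j ((1 : K) ⊗ₜ[A] b)
    rw [Algebra.TensorProduct.lift_tmul, map_one]; simp
  haveI : Algebra.IsPushout B S H G := by
    haveI : Algebra.IsPushout A S K G := Algebra.IsPushout.symm inferInstance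
    haveI : Algebra.IsPushout A B K H := Algebra.IsPushout.symm inferInstance
    exact (Algebra.IsPushout.comp_iff A B K H (T := S) (T' := G)).1 inferInstance
  haveI : Algebra.IsPushout B H S G := Algebra.IsPushout.symm inferInstance
  haveI : Module.Flat H G := Module.Flat.of_linearEquiv (Algebra.IsPushout.equiv B H S G).symm.toLinearEquiv
  letI : Algebra A₀ G := ((algebraMap A G).comp (algebraMap A₀ A)).toAlgebra
  haveI : IsScalarTower F H G := by
    refine IsScalarTower.of_algebraMap_eq fun x => ?_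
    change algebraMap F G x = j (i x)
    induction x using (Algebra.IsPushout.out (R := A₀) (S := K₀) (R' := S₀) (S' := F)).inductionOn with
    | tmul s =>
      change algebraMap F G (algebraMap S₀ F s) = _
      rw [hS, show i ((IsScalarTower.toAlgHom A₀ S₀ F).toLinearMap s) = algebraMap S₀ H s from
        Algebra.pushoutDesc_right (R := A₀) (S := K₀) _ _ _ _ s]
      change _ = j ((1 : K) ⊗ₜ[A] algebraMap S₀ B s)
      rw [Algebra.TensorProduct.lift_tmul, map_one, one_mul, IsScalarTower.coe_toAlgHom',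
        IsScalarTower.algebraMap_apply B S G, ← IsScalarTower.algebraMap_apply S₀ B S]
    | smul k x hx =>
      rw [Algebra.smul_def, map_mul, map_mul, map_mul, hx, hK,
        show i (algebraMap K₀ F k) = algebraMap K H (algebraMap K₀ K k) from
          Algebra.pushoutDesc_left (R := A₀) (R' := S₀) _ _ _ _ k]
      congr 1
      exact (IsScalarTower.algebraMap_apply K H G _)
    | add x y hx hy => rw [map_add, map_add, map_add, hx, hy]
    | zero => simp
  exact Module.Flat.trans F H G

end Groth.Agent.FibCrit
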