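import Mathlib
import Groth.Agent.FibCrit.Tools
import Groth.Agent.S0392

/-!
The fibrewise criterion for local rings with a noetherian model.
-/

universe u

set_option linter.style.haveILetI false

open TensorProduct IsLocalRing

namespace Groth.Agent.FibCrit

/-- **Fibrewise criterion, given a noetherian local model.** -/
theorem core {R₀ S₀ Q₀ R S Q B C N : Type u} [CommRing R₀] [CommRing S₀] [CommRing Q₀] [CommRing R] [CommRing S]
    [CommRing Q] [CommRing B] [CommRing C] [IsLocalRing R₀] [IsLocalRing S₀] [IsLocalRing Q₀] [IsLocalRing R]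
    [IsLocalRing S] [IsLocalRing Q] [IsNoetherianRing R₀] [IsNoetherianRing S₀] [IsNoetherianRing Q₀]
    [Algebra R₀ S₀] [Algebra S₀ Q₀] [Algebra R₀ Q₀] [IsScalarTower R₀ S₀ Q₀]
    [Algebra R S] [Algebra S Q] [Algebra R Q] [IsScalarTower R S Q]
    [Algebra R₀ R] [Algebra S₀ S] [Algebra Q₀ Q] [Algebra R₀ S] [IsScalarTower R₀ R S] [IsScalarTower R₀ S₀ S]
    [Algebra S₀ Q] [IsScalarTower S₀ S Q] [IsScalarTower S₀ Q₀ Q]
    [IsLocalHom (algebraMap R₀ S₀)] [IsLocalHom (algebraMap S₀ Q₀)] [IsLocalHom (algebraMap R₀ R)]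
    [IsLocalHom (algebraMap Q₀ Q)] [IsLocalHom (algebraMap R Q)]
    [Algebra R B] [Algebra S₀ B] [Algebra R₀ B] [IsScalarTower R₀ R B] [IsScalarTower R₀ S₀ B]
    [Algebra.IsPushout R₀ R S₀ B] [Algebra B S] [IsScalarTower R B S] [IsScalarTower S₀ B S] [Module.Flat B S]
    [Algebra S C] [Algebra Q₀ C] [Algebra S₀ C] [IsScalarTower S₀ S C] [IsScalarTower S₀ Q₀ C]
    [Algebra.IsPushout S₀ S Q₀ C] [Algebra C Q] [IsScalarTower S C Q] [IsScalarTower Q₀ C Q] [Module.Flat C Q]
    [AddCommGroup N] [Module Q₀ N] [Module S₀ N] [Module R₀ N] [IsScalarTower S₀ Q₀ N] [IsScalarTower R₀ S₀ N]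
    [Module.Finite Q₀ N] [Module.Flat R₀ N] [Nontrivial (Q ⊗[Q₀] N)]
    (hfib : Module.Flat (S ⧸ (maximalIdeal R).map (algebraMap R S))
      ((S ⧸ (maximalIdeal R).map (algebraMap R S)) ⊗[S] (Q ⊗[Q₀] N))) :
    Module.Flat S (Q ⊗[Q₀] N) ∧ Module.Flat R S := by
  let I₀ := (maximalIdeal R₀).map (algebraMap R₀ S₀)
  let J₀ := I₀.map (algebraMap S₀ Q₀)
  let I := (maximalIdeal R).map (algebraMap R S)
  let J := I.map (algebraMap S Q)
  let K₀ := R₀ ⧸ maximalIdeal R₀
  let K := R ⧸ maximalIdeal R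
  let F := S₀ ⧸ I₀
  let G := S ⧸ I
  let Fq := Q₀ ⧸ J₀
  let Gq := Q ⧸ J
  have hK : maximalIdeal R₀ ≤ (maximalIdeal R).comap (algebraMap R₀ R) := fun a ha => map_nonunit _ a ha
  have hI : I₀ ≤ I.comap (algebraMap S₀ S) := by
    refine Ideal.map_le_iff_le_comap.2 fun a ha => ?_
    rw [Ideal.mem_comap, Ideal.mem_comap, ← IsScalarTower.algebraMap_apply, IsScalarTower.algebraMap_apply R₀ R S]
    exact Ideal.mem_map_of_mem _ (hK ha)
  have hJ : J₀ ≤ J.comap (algebraMap Q₀ Q) := by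
    refine Ideal.map_le_iff_le_comap.2 fun a ha => ?_
    rw [Ideal.mem_comap, Ideal.mem_comap, ← IsScalarTower.algebraMap_apply, IsScalarTower.algebraMap_apply S₀ S Q]
    exact Ideal.mem_map_of_mem _ (hI ha)
  letI : Algebra K₀ K := (Ideal.quotientMap (maximalIdeal R) (algebraMap R₀ R) hK).toAlgebra
  haveI : IsScalarTower R₀ K₀ K := IsScalarTower.of_algebraMap_eq fun _ => rfl
  letI : Algebra K₀ F := (Ideal.quotientMap I₀ (algebraMap R₀ S₀) Ideal.le_comap_map).toAlgebra
  haveI : IsScalarTower R₀ K₀ F := IsScalarTower.of_algebraMap_eq fun _ => rfl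
  letI : Algebra K G := (Ideal.quotientMap I (algebraMap R S) Ideal.le_comap_map).toAlgebra
  haveI : IsScalarTower R K G := IsScalarTower.of_algebraMap_eq fun _ => rfl
  letI : Algebra F Fq := (Ideal.quotientMap J₀ (algebraMap S₀ Q₀) Ideal.le_comap_map).toAlgebra
  haveI : IsScalarTower S₀ F Fq := IsScalarTower.of_algebraMap_eq fun _ => rfl
  letI : Algebra G Gq := (Ideal.quotientMap J (algebraMap S Q) Ideal.le_comap_map).toAlgebra
  haveI : IsScalarTower S G Gq := IsScalarTower.of_algebraMap_eq fun _ => rfl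
  letI : Algebra F G := (Ideal.quotientMap I (algebraMap S₀ S) hI).toAlgebra
  haveI : IsScalarTower S₀ F G := IsScalarTower.of_algebraMap_eq fun _ => rfl
  letI : Algebra Fq Gq := (Ideal.quotientMap J (algebraMap Q₀ Q) hJ).toAlgebra
  haveI : IsScalarTower Q₀ Fq Gq := IsScalarTower.of_algebraMap_eq fun _ => rfl
  haveI := isPushout_quot (A := R₀) (B := S₀) (maximalIdeal R₀) (J := I₀) rfl
  haveI := isPushout_quot (A := R) (B := S) (maximalIdeal R) (J := I) rfl
  haveI := isPushout_quot (A := S₀) (B := Q₀) I₀ (J := J₀) rfl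
  haveI := isPushout_quot (A := S) (B := Q) I (J := J) rfl
  letI := Ideal.Quotient.field (maximalIdeal R₀)
  haveI : Module.Flat K₀ K := inferInstance
  haveI hFG : Module.Flat F G := flat_fibre (A₀ := R₀) (A := R) (S₀ := S₀) (S := S) (K₀ := K₀) (K := K) (B := B)
    (fun k => by
      obtain ⟨a, rfl⟩ := Ideal.Quotient.mk_surjective k
      exact congrArg (Ideal.Quotient.mk I)
        ((IsScalarTower.algebraMap_apply R₀ S₀ S a).symm.trans (IsScalarTower.algebraMap_apply R₀ R S a)))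
    (fun s => rfl)
  haveI hFGq : Module.Flat Fq Gq := flat_fibre (A₀ := S₀) (A := S) (S₀ := Q₀) (S := Q) (K₀ := F) (K := G) (B := C)
    (fun k => by
      obtain ⟨a, rfl⟩ := Ideal.Quotient.mk_surjective k
      exact congrArg (Ideal.Quotient.mk J)
        ((IsScalarTower.algebraMap_apply S₀ Q₀ Q a).symm.trans (IsScalarTower.algebraMap_apply S₀ S Q a)))
    (fun s => rfl)
  -- `Fq → Gq` is faithfully flat
  have hJm : J ≤ maximalIdeal Q := by
    rw [show J = (maximalIdeal R).map (algebraMap R Q) by rw [IsScalarTower.algebraMap_eq R S Q, ← Ideal.map_map]]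
    exact LocalCrit.map_maximalIdeal_le
  have hJ₀m : J₀ ≤ maximalIdeal Q₀ := fun a ha hu =>
    hJm (Ideal.mem_comap.1 (hJ ha)) (hu.map (algebraMap Q₀ Q))
  haveI : Nontrivial Gq := Ideal.Quotient.nontrivial_iff.2 fun e =>
    (maximalIdeal.isMaximal Q).ne_top (top_le_iff.1 (e ▸ hJm))
  haveI : Nontrivial Fq := Ideal.Quotient.nontrivial_iff.2 fun e =>
    (maximalIdeal.isMaximal Q₀).ne_top (top_le_iff.1 (e ▸ hJ₀m))
  haveI : IsLocalRing Gq := IsLocalRing.of_surjective' _ Ideal.Quotient.mk_surjective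
  haveI : IsLocalRing Fq := IsLocalRing.of_surjective' _ Ideal.Quotient.mk_surjective
  haveI : IsLocalHom (algebraMap Fq Gq) := by
    refine ⟨fun a ha => ?_⟩
    obtain ⟨a, rfl⟩ := Ideal.Quotient.mk_surjective a
    haveI : IsLocalHom (Ideal.Quotient.mk J) := IsLocalHom.of_surjective _ Ideal.Quotient.mk_surjective
    have h1 : IsUnit (algebraMap Q₀ Q a) := IsUnit.of_map (Ideal.Quotient.mk J) _ ha
    exact (IsUnit.of_map (algebraMap Q₀ Q) _ h1).map _
  haveI : Module.FaithfullyFlat Fq Gq := Module.FaithfullyFlat.of_flat_of_isLocalHom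
  -- descend the flatness of the fibre
  let X := Q ⊗[Q₀] N
  haveI := hfib
  letI : Algebra F Gq := ((algebraMap G Gq).comp (algebraMap F G)).toAlgebra
  haveI : IsScalarTower F G Gq := IsScalarTower.of_algebraMap_eq fun _ => rfl
  haveI : IsScalarTower F Fq Gq := IsScalarTower.of_algebraMap_eq fun k => by
    obtain ⟨a, rfl⟩ := Ideal.Quotient.mk_surjective k
    exact congrArg (Ideal.Quotient.mk J)
      ((IsScalarTower.algebraMap_apply S₀ S Q a).symm.trans (IsScalarTower.algebraMap_apply S₀ Q₀ Q a))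
  haveI : Module.Flat G (Gq ⊗[Q] X) := Module.Flat.of_linearEquiv (Algebra.IsPushout.cancelBaseChange S G Q Gq X)
  haveI : Module.Flat F (Gq ⊗[Q] X) := Module.Flat.trans F G _
  haveI : Module.Flat F (Gq ⊗[Fq] (Fq ⊗[Q₀] N)) :=
    Module.Flat.of_linearEquiv ((AlgebraTensorModule.cancelBaseChange Q₀ Fq Gq Gq N ≪≫ₗ
      (AlgebraTensorModule.cancelBaseChange Q₀ Q Gq Gq N).symm).restrictScalars F)
  haveI : Module.Flat F (Fq ⊗[Q₀] N) := flat_descent (B := Fq) (B' := Gq)
  haveI : Module.Flat F (F ⊗[S₀] N) :=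
    Module.Flat.of_linearEquiv (Algebra.IsPushout.cancelBaseChange S₀ F Q₀ Fq N).symm
  haveI : Nontrivial N := by
    by_contra h
    rw [not_nontrivial_iff_subsingleton] at h
    exact not_nontrivial (Q ⊗[Q₀] N) inferInstance
  obtain ⟨hS₀, hN⟩ := S0392.result (R := R₀) (S := S₀) (S' := Q₀) (M := N) ‹Module.Flat F (F ⊗[S₀] N)›
  constructor
  · haveI : Module.Flat S (C ⊗[Q₀] N) := Module.Flat.of_linearEquiv (Algebra.IsPushout.cancelBaseChange S₀ S Q₀ C N)
    haveI : Module.Flat S (Q ⊗[C] (C ⊗[Q₀] N)) := FlatRes.flat_tensor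
    exact Module.Flat.of_linearEquiv ((AlgebraTensorModule.cancelBaseChange Q₀ C Q Q N).symm.restrictScalars S)
  · haveI : Module.Flat R B := Module.Flat.of_linearEquiv (Algebra.IsPushout.equiv R₀ R S₀ B).symm.toLinearEquiv
    exact Module.Flat.trans R B S

end Groth.Agent.FibCrit
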