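import Mathlib
import Groth.Agent.FibCrit.Core

/-!
The fibrewise criterion at a prime, given a noetherian model.
-/

universe u

set_option linter.style.haveILetI false

open TensorProduct IsLocalRing

namespace Groth.Agent.FibCrit

/-- A map out of a localisation at a prime is local if it pulls the maximal ideal back to the prime. -/
theorem isLocalHom_of_atPrime {A L B : Type u} [CommRing A] [CommRing L] [CommRing B] [Algebra A L] [IsLocalRing B]
    (P : Ideal A) [P.IsPrime] [IsLocalization.AtPrime L P] (f : L →+* B)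
    (h : (maximalIdeal B).comap (f.comp (algebraMap A L)) = P) : IsLocalHom f := by
  refine ⟨fun a ha => ?_⟩
  obtain ⟨⟨x, s⟩, hxs⟩ := IsLocalization.surj P.primeCompl a
  have hs : IsUnit (algebraMap A L s) := IsLocalization.map_units L s
  have hx : IsUnit (f (algebraMap A L x)) := by
    rw [← hxs, map_mul]
    exact ha.mul (hs.map f)
  have hxP : x ∈ P.primeCompl := fun hxP => by
    rw [← h] at hxP
    exact hxP hx
  exact isUnit_of_mul_isUnit_left (hxs ▸ IsLocalization.map_units L ⟨x, hxP⟩ : IsUnit (a * algebraMap A L s))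

/-- Flatness of the map `A' ⊗_{A₀'} S₀' → S'` of localisations of a cocartesian square. -/
theorem flat_loc {A₀ A S₀ S A₀' A' S₀' S' : Type u} [CommRing A₀] [CommRing A] [CommRing S₀] [CommRing S]
    [CommRing A₀'] [CommRing A'] [CommRing S₀'] [CommRing S'] [Algebra A₀ A] [Algebra A₀ S₀] [Algebra A S]
    [Algebra S₀ S] [Algebra A₀ S] [IsScalarTower A₀ A S] [IsScalarTower A₀ S₀ S] [Algebra.IsPushout A₀ A S₀ S]
    [Algebra A₀ A₀'] [Algebra A A'] [Algebra A₀ A'] [Algebra A₀' A'] [IsScalarTower A₀ A A'] [IsScalarTower A₀ A₀' A']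
    [Algebra S₀ S₀'] [Algebra A₀ S₀'] [Algebra A₀' S₀'] [IsScalarTower A₀ S₀ S₀'] [IsScalarTower A₀ A₀' S₀']
    [Algebra S S'] [Algebra A S'] [Algebra A' S'] [IsScalarTower A S S'] [IsScalarTower A A' S']
    [Algebra S₀ S'] [Algebra S₀' S'] [IsScalarTower S₀ S S'] [IsScalarTower S₀ S₀' S']
    [Algebra A₀' S'] [IsScalarTower A₀' A' S'] [IsScalarTower A₀' S₀' S']
    (MA : Submonoid A) [IsLocalization MA A'] (MS₀ : Submonoid S₀) [IsLocalization MS₀ S₀']
    (MS : Submonoid S) [IsLocalization MS S'] :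
    (Algebra.TensorProduct.lift (IsScalarTower.toAlgHom A₀' A' S') (IsScalarTower.toAlgHom A₀' S₀' S')
      fun _ _ => Commute.all _ _).toRingHom.Flat := by
  let B := A' ⊗[A₀'] S₀'
  let l := Algebra.TensorProduct.lift (IsScalarTower.toAlgHom A₀' A' S') (IsScalarTower.toAlgHom A₀' S₀' S')
      fun _ _ => Commute.all _ _
  letI : Algebra B S' := l.toRingHom.toAlgebra
  let f : A →ₐ[A₀] B := AlgHom.mk ((algebraMap A' B).comp (algebraMap A A')) fun r => by
    change algebraMap A' B (algebraMap A A' (algebraMap A₀ A r)) = algebraMap A₀ B r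
    rw [← IsScalarTower.algebraMap_apply A₀ A A', ← IsScalarTower.algebraMap_apply A₀ A' B]
  let g : S₀ →ₐ[A₀] B := AlgHom.mk
    ((Algebra.TensorProduct.includeRight : S₀' →ₐ[A₀'] B).toRingHom.comp (algebraMap S₀ S₀')) fun r => by
    change (Algebra.TensorProduct.includeRight : S₀' →ₐ[A₀'] B) (algebraMap S₀ S₀' (algebraMap A₀ S₀ r)) =
      algebraMap A₀ B r
    rw [← IsScalarTower.algebraMap_apply A₀ S₀ S₀', IsScalarTower.algebraMap_apply A₀ A₀' S₀', AlgHom.commutes,
      ← IsScalarTower.algebraMap_apply A₀ A₀' B]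
  let d := Algebra.pushoutDesc S f g fun _ _ => mul_comm _ _
  letI : Algebra S B := d.toRingHom.toAlgebra
  have hdA : ∀ a, algebraMap S B (algebraMap A S a) = algebraMap A' B (algebraMap A A' a) := fun a =>
    show d _ = _ from Algebra.pushoutDesc_left (R := A₀) (R' := S₀) _ _ _ _ a
  have hdS : ∀ s, algebraMap S B (algebraMap S₀ S s) = (1 : A') ⊗ₜ[A₀'] algebraMap S₀ S₀' s := fun s =>
    show d _ = _ from Algebra.pushoutDesc_right (R := A₀) (S := A) _ _ _ _ s
  haveI : IsScalarTower S B S' := by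
    refine IsScalarTower.of_algebraMap_eq fun x => ?_
    induction x using (Algebra.IsPushout.out (R := A₀) (S := A) (R' := S₀) (S' := S)).inductionOn with
    | tmul s =>
      change algebraMap S S' (algebraMap S₀ S s) = l (algebraMap S B (algebraMap S₀ S s))
      rw [hdS, Algebra.TensorProduct.lift_tmul, map_one, one_mul, IsScalarTower.coe_toAlgHom',
        ← IsScalarTower.algebraMap_apply, ← IsScalarTower.algebraMap_apply]
    | smul a x hx =>
      rw [Algebra.smul_def, map_mul, map_mul, map_mul, hx]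
      congr 1
      change algebraMap S S' (algebraMap A S a) = l (algebraMap S B (algebraMap A S a))
      rw [hdA, ← IsScalarTower.algebraMap_apply A S S']
      change _ = l (algebraMap A A' a ⊗ₜ[A₀'] (1 : S₀'))
      rw [Algebra.TensorProduct.lift_tmul, map_one, mul_one, IsScalarTower.coe_toAlgHom',
        ← IsScalarTower.algebraMap_apply]
    | add x y hx hy => rw [map_add, map_add, map_add, hx, hy]
    | zero => simp
  haveI : Algebra.IsEpi S B := by
    refine isEpi_tensor (fun a => ?_) fun s => ?_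
    · obtain ⟨⟨x, w⟩, hxw⟩ := IsLocalization.surj MA a
      exact ⟨algebraMap A A' w, IsLocalization.map_units A' w, ⟨algebraMap A S w, hdA _⟩,
        ⟨algebraMap A S x, (hdA _).trans (congrArg (algebraMap A' B) hxw.symm)⟩⟩
    · obtain ⟨⟨x, w⟩, hxw⟩ := IsLocalization.surj MS₀ s
      exact ⟨algebraMap S₀ S₀' w, IsLocalization.map_units S₀' w, ⟨algebraMap S₀ S w, hdS _⟩,
        ⟨algebraMap S₀ S x, (hdS _).trans (congrArg ((1 : A') ⊗ₜ[A₀'] ·) hxw.symm)⟩⟩
  haveI : Module.Flat S S' := IsLocalization.flat S' MS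
  show Module.Flat B S'
  exact flat_of_isEpi (S := S)

/-- **Fibrewise criterion at a prime, given a noetherian model.** -/
theorem model_fibre {R₀ S₀ Q₀ R S Q R' S' Q' M₀ : Type u} [CommRing R₀] [CommRing S₀] [CommRing Q₀] [CommRing R]
    [CommRing S] [CommRing Q] [CommRing R'] [CommRing S'] [CommRing Q']
    [IsNoetherianRing R₀] [IsNoetherianRing S₀] [IsNoetherianRing Q₀]
    [Algebra R₀ S₀] [Algebra S₀ Q₀] [Algebra R₀ Q₀] [IsScalarTower R₀ S₀ Q₀]
    [Algebra R S] [Algebra S Q] [Algebra R Q] [IsScalarTower R S Q]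
    [Algebra R₀ R] [Algebra S₀ S] [Algebra Q₀ Q] [Algebra R₀ S] [IsScalarTower R₀ R S] [IsScalarTower R₀ S₀ S]
    [Algebra S₀ Q] [IsScalarTower S₀ S Q] [IsScalarTower S₀ Q₀ Q]
    [Algebra.IsPushout R₀ R S₀ S] [Algebra.IsPushout S₀ S Q₀ Q]
    (q : Ideal Q) [q.IsPrime]
    [Algebra R R'] [IsLocalization.AtPrime R' (q.comap (algebraMap R Q))]
    [Algebra S S'] [IsLocalization.AtPrime S' (q.comap (algebraMap S Q))]
    [Algebra Q Q'] [IsLocalization.AtPrime Q' q]
    [Algebra R' S'] [Algebra R S'] [IsScalarTower R S S'] [IsScalarTower R R' S']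
    [Algebra S' Q'] [Algebra S Q'] [IsScalarTower S Q Q'] [IsScalarTower S S' Q']
    [Algebra R' Q'] [IsScalarTower R' S' Q']
    [Algebra Q₀ Q'] [IsScalarTower Q₀ Q Q'] [IsLocalRing R'] [IsLocalRing S'] [IsLocalRing Q']
    [AddCommGroup M₀] [Module Q₀ M₀] [Module.Finite Q₀ M₀]
    (hflat : Module.Flat R₀ (Localization.AtPrime (q.comap (algebraMap Q₀ Q)) ⊗[Q₀] M₀))
    (hne : Nontrivial (Q' ⊗[Q₀] M₀))
    (hfib : Module.Flat (S' ⧸ (maximalIdeal R').map (algebraMap R' S'))
      ((S' ⧸ (maximalIdeal R').map (algebraMap R' S')) ⊗[S'] (Q' ⊗[Q₀] M₀))) :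
    Module.Flat S' (Q' ⊗[Q₀] M₀) ∧ Module.Flat R' S' := by
  let q₀ := q.comap (algebraMap Q₀ Q)
  let y₀ := q₀.comap (algebraMap S₀ Q₀)
  let p₀ := y₀.comap (algebraMap R₀ S₀)
  let R₁ := Localization.AtPrime p₀
  let S₁ := Localization.AtPrime y₀
  let Q₁ := Localization.AtPrime q₀
  letI : Algebra R₁ S₁ := (Localization.localRingHom p₀ y₀ (algebraMap R₀ S₀) rfl).toAlgebra
  letI : Algebra S₁ Q₁ := (Localization.localRingHom y₀ q₀ (algebraMap S₀ Q₀) rfl).toAlgebra
  letI : Algebra R₁ Q₁ := ((algebraMap S₁ Q₁).comp (algebraMap R₁ S₁)).toAlgebra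
  haveI : IsScalarTower R₁ S₁ Q₁ := IsScalarTower.of_algebraMap_eq fun _ => rfl
  haveI : IsScalarTower R₀ R₁ S₁ := IsScalarTower.of_algebraMap_eq fun a => by
    rw [IsScalarTower.algebraMap_apply R₀ S₀ S₁]
    exact (Localization.localRingHom_to_map _ _ _ rfl a).symm
  haveI : IsScalarTower S₀ S₁ Q₁ := IsScalarTower.of_algebraMap_eq fun a => by
    rw [IsScalarTower.algebraMap_apply S₀ Q₀ Q₁]
    exact (Localization.localRingHom_to_map _ _ _ rfl a).symm
  haveI : IsLocalHom (algebraMap R₁ S₁) := Localization.isLocalHom_localRingHom _ _ _ rfl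
  haveI : IsLocalHom (algebraMap S₁ Q₁) := Localization.isLocalHom_localRingHom _ _ _ rfl
  -- into the given localisations
  have hQ' : (maximalIdeal Q').comap (algebraMap Q Q') = q := IsLocalization.AtPrime.comap_maximalIdeal Q' q
  have hS' : (maximalIdeal S').comap (algebraMap S S') = q.comap (algebraMap S Q) :=
    IsLocalization.AtPrime.comap_maximalIdeal S' _
  have hR' : (maximalIdeal R').comap (algebraMap R R') = q.comap (algebraMap R Q) :=
    IsLocalization.AtPrime.comap_maximalIdeal R' _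
  have hQ'' : (maximalIdeal Q').comap ((algebraMap Q Q').comp (algebraMap Q₀ Q)) = q₀ := by
    rw [← Ideal.comap_comap, hQ']
  have hS'' : (maximalIdeal S').comap ((algebraMap S S').comp (algebraMap S₀ S)) = y₀ := by
    rw [← Ideal.comap_comap, hS']
    simp only [y₀, q₀, Ideal.comap_comap, ← IsScalarTower.algebraMap_eq]
  have hR'' : (maximalIdeal R').comap ((algebraMap R R').comp (algebraMap R₀ R)) = p₀ := by
    rw [← Ideal.comap_comap, hR']
    simp only [p₀, y₀, q₀, Ideal.comap_comap, ← IsScalarTower.algebraMap_eq]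
    rw [IsScalarTower.algebraMap_eq R S Q, RingHom.comp_assoc, ← IsScalarTower.algebraMap_eq R₀ R S,
      IsScalarTower.algebraMap_eq R₀ S₀ S, ← RingHom.comp_assoc, ← IsScalarTower.algebraMap_eq S₀ S Q,
      IsScalarTower.algebraMap_eq S₀ Q₀ Q, RingHom.comp_assoc, ← IsScalarTower.algebraMap_eq R₀ S₀ Q₀]
  have unit : ∀ {A A' : Type u} [CommRing A] [CommRing A'] [IsLocalRing A'] (f : A →+* A') (P : Ideal A) [P.IsPrime],
      (maximalIdeal A').comap f = P → ∀ x : P.primeCompl, IsUnit (f x) := by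
    intro A A' _ _ _ f P _ h x
    by_contra hx
    exact x.2 (h ▸ hx)
  let cR : R₁ →+* R' := IsLocalization.lift (unit _ p₀ hR'')
  let cS : S₁ →+* S' := IsLocalization.lift (unit _ y₀ hS'')
  let cQ : Q₁ →+* Q' := IsLocalization.lift (unit _ q₀ hQ'')
  letI : Algebra R₁ R' := cR.toAlgebra
  letI : Algebra S₁ S' := cS.toAlgebra
  letI : Algebra Q₁ Q' := cQ.toAlgebra
  letI : Algebra R₀ R' := ((algebraMap R R').comp (algebraMap R₀ R)).toAlgebra
  haveI : IsScalarTower R₀ R R' := IsScalarTower.of_algebraMap_eq fun _ => rfl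
  haveI : IsScalarTower R₀ R₁ R' := IsScalarTower.of_algebraMap_eq fun a => (IsLocalization.lift_eq _ a).symm
  letI : Algebra S₀ S' := ((algebraMap S S').comp (algebraMap S₀ S)).toAlgebra
  haveI : IsScalarTower S₀ S S' := IsScalarTower.of_algebraMap_eq fun _ => rfl
  haveI : IsScalarTower S₀ S₁ S' := IsScalarTower.of_algebraMap_eq fun a => (IsLocalization.lift_eq _ a).symm
  haveI : IsScalarTower Q₀ Q₁ Q' := IsScalarTower.of_algebraMap_eq fun a => by
    rw [IsScalarTower.algebraMap_apply Q₀ Q Q']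
    exact (IsLocalization.lift_eq (unit _ q₀ hQ'') a).symm
  haveI : IsLocalHom (algebraMap R₁ R') := isLocalHom_of_atPrime p₀ _ (by
    rw [← IsScalarTower.algebraMap_eq]; exact hR'')
  haveI : IsLocalHom (algebraMap Q₁ Q') := isLocalHom_of_atPrime q₀ _ (by
    rw [← IsScalarTower.algebraMap_eq, IsScalarTower.algebraMap_eq Q₀ Q Q']; exact hQ'')
  haveI : IsLocalHom (algebraMap R' Q') := isLocalHom_of_atPrime (q.comap (algebraMap R Q)) _ (by
    rw [← hQ', Ideal.comap_comap]
    refine congrArg (fun φ => Ideal.comap φ (maximalIdeal Q')) (RingHom.ext fun a => ?_)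
    simp only [RingHom.comp_apply]
    rw [IsScalarTower.algebraMap_apply R' S' Q', ← IsScalarTower.algebraMap_apply R R' S',
      IsScalarTower.algebraMap_apply R S S', ← IsScalarTower.algebraMap_apply S S' Q',
      IsScalarTower.algebraMap_apply S Q Q', ← IsScalarTower.algebraMap_apply R S Q])
  letI : Algebra R₁ S' := ((algebraMap R' S').comp cR).toAlgebra
  haveI : IsScalarTower R₁ R' S' := IsScalarTower.of_algebraMap_eq fun _ => rfl
  haveI : IsScalarTower R₁ S₁ S' := IsScalarTower.of_algebraMap_eq' <| by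
    refine IsLocalization.ringHom_ext p₀.primeCompl (RingHom.ext fun a => ?_)
    simp only [RingHom.comp_apply]
    rw [← IsScalarTower.algebraMap_apply R₀ R₁ S₁, IsScalarTower.algebraMap_apply R₁ R' S',
      ← IsScalarTower.algebraMap_apply R₀ R₁ R', IsScalarTower.algebraMap_apply R₀ R R',
      ← IsScalarTower.algebraMap_apply R R' S', IsScalarTower.algebraMap_apply R₀ S₀ S₁,
      ← IsScalarTower.algebraMap_apply S₀ S₁ S', IsScalarTower.algebraMap_apply S₀ S S',
      ← IsScalarTower.algebraMap_apply R₀ S₀ S, IsScalarTower.algebraMap_apply R₀ R S,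
      ← IsScalarTower.algebraMap_apply R S S']
  letI : Algebra S₁ Q' := ((algebraMap S' Q').comp cS).toAlgebra
  haveI : IsScalarTower S₁ S' Q' := IsScalarTower.of_algebraMap_eq fun _ => rfl
  haveI : IsScalarTower S₁ Q₁ Q' := IsScalarTower.of_algebraMap_eq' <| by
    refine IsLocalization.ringHom_ext y₀.primeCompl (RingHom.ext fun a => ?_)
    simp only [RingHom.comp_apply]
    rw [← IsScalarTower.algebraMap_apply S₀ S₁ Q₁, IsScalarTower.algebraMap_apply S₁ S' Q',
      ← IsScalarTower.algebraMap_apply S₀ S₁ S', IsScalarTower.algebraMap_apply S₀ S S',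
      ← IsScalarTower.algebraMap_apply S S' Q', IsScalarTower.algebraMap_apply S₀ Q₀ Q₁,
      ← IsScalarTower.algebraMap_apply Q₀ Q₁ Q', IsScalarTower.algebraMap_apply Q₀ Q Q',
      ← IsScalarTower.algebraMap_apply S₀ Q₀ Q, IsScalarTower.algebraMap_apply S₀ S Q,
      ← IsScalarTower.algebraMap_apply S Q Q']
  let B := R' ⊗[R₁] S₁
  let C := S' ⊗[S₁] Q₁
  letI : Algebra S₁ B := (Algebra.TensorProduct.includeRight : S₁ →ₐ[R₁] B).toRingHom.toAlgebra
  haveI : IsScalarTower R₁ S₁ B := IsScalarTower.of_algebraMap_eq fun a =>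
    ((Algebra.TensorProduct.includeRight : S₁ →ₐ[R₁] B).commutes a).symm
  haveI : Algebra.IsPushout R₁ R' S₁ B := TensorProduct.isPushout
  let lB := Algebra.TensorProduct.lift (IsScalarTower.toAlgHom R₁ R' S') (IsScalarTower.toAlgHom R₁ S₁ S')
    fun _ _ => Commute.all _ _
  letI : Algebra B S' := lB.toRingHom.toAlgebra
  haveI : IsScalarTower R' B S' := IsScalarTower.of_algebraMap_eq fun r => by
    change _ = lB (r ⊗ₜ[R₁] (1 : S₁))
    simp [lB]
  haveI : IsScalarTower S₁ B S' := IsScalarTower.of_algebraMap_eq fun r => by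
    change _ = lB ((1 : R') ⊗ₜ[R₁] r)
    simp [lB]
  haveI : Module.Flat B S' := flat_loc (A₀ := R₀) (A := R) (S₀ := S₀) (S := S)
    (q.comap (algebraMap R Q)).primeCompl y₀.primeCompl (q.comap (algebraMap S Q)).primeCompl
  letI : Algebra Q₁ C := (Algebra.TensorProduct.includeRight : Q₁ →ₐ[S₁] C).toRingHom.toAlgebra
  haveI : IsScalarTower S₁ Q₁ C := IsScalarTower.of_algebraMap_eq fun a =>
    ((Algebra.TensorProduct.includeRight : Q₁ →ₐ[S₁] C).commutes a).symm
  haveI : Algebra.IsPushout S₁ S' Q₁ C := TensorProduct.isPushout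
  let lC := Algebra.TensorProduct.lift (IsScalarTower.toAlgHom S₁ S' Q') (IsScalarTower.toAlgHom S₁ Q₁ Q')
    fun _ _ => Commute.all _ _
  letI : Algebra C Q' := lC.toRingHom.toAlgebra
  haveI : IsScalarTower S' C Q' := IsScalarTower.of_algebraMap_eq fun r => by
    change _ = lC (r ⊗ₜ[S₁] (1 : Q₁))
    simp [lC]
  haveI : IsScalarTower Q₁ C Q' := IsScalarTower.of_algebraMap_eq fun r => by
    change _ = lC ((1 : S') ⊗ₜ[S₁] r)
    simp [lC]
  haveI : Module.Flat C Q' := flat_loc (A₀ := S₀) (A := S) (S₀ := Q₀) (S := Q)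
    (q.comap (algebraMap S Q)).primeCompl q₀.primeCompl q.primeCompl
  -- the module
  let N := Q₁ ⊗[Q₀] M₀
  haveI : IsScalarTower R₀ R₁ Q₁ := IsScalarTower.of_algebraMap_eq fun a => by
    rw [IsScalarTower.algebraMap_apply R₁ S₁ Q₁, ← IsScalarTower.algebraMap_apply R₀ R₁ S₁,
      IsScalarTower.algebraMap_apply R₀ S₀ S₁, ← IsScalarTower.algebraMap_apply S₀ S₁ Q₁,
      IsScalarTower.algebraMap_apply S₀ Q₀ Q₁, ← IsScalarTower.algebraMap_apply R₀ S₀ Q₀,
      ← IsScalarTower.algebraMap_apply R₀ Q₀ Q₁]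
  haveI : IsScalarTower R₀ R₁ N := inferInstance
  haveI : Module.Flat R₁ N := (Module.flat_iff_of_isLocalization R₁ p₀.primeCompl N).2 hflat
  let e : Q' ⊗[Q₁] N ≃ₗ[Q'] Q' ⊗[Q₀] M₀ := AlgebraTensorModule.cancelBaseChange Q₀ Q₁ Q' Q' M₀
  haveI : Nontrivial (Q' ⊗[Q₁] N) := e.toEquiv.nontrivial
  obtain ⟨h1, h2⟩ := core (R₀ := R₁) (S₀ := S₁) (Q₀ := Q₁) (R := R') (S := S') (Q := Q') (B := B) (C := C) (N := N)
    (Module.Flat.of_linearEquiv (AlgebraTensorModule.congr (LinearEquiv.refl _ _) (e.restrictScalars S')))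
  exact ⟨Module.Flat.of_linearEquiv (e.restrictScalars S').symm, h2⟩

end Groth.Agent.FibCrit
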