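import Mathlib
import Groth.Agent.FlatSpread.Model
import Groth.Agent.FibCrit.Model

/-!
The fibrewise criterion for finitely presented algebras.
-/

universe u

set_option linter.style.haveILetI false

open TensorProduct IsLocalRing MvPolynomial Groth.Agent.FlatSpread

namespace Groth.Agent.FibCrit

/-- **Fibrewise criterion of flatness**, finitely presented case. -/
theorem fp_fibre {R S Q R' S' Q' M : Type u} [CommRing R] [CommRing S] [CommRing Q] [CommRing R'] [CommRing S']
    [CommRing Q'] [Algebra R S] [Algebra S Q] [Algebra R Q] [IsScalarTower R S Q]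
    [Algebra.FinitePresentation R S] [Algebra.FinitePresentation R Q]
    (q : Ideal Q) [q.IsPrime]
    [Algebra R R'] [IsLocalization.AtPrime R' (q.comap (algebraMap R Q))]
    [Algebra S S'] [IsLocalization.AtPrime S' (q.comap (algebraMap S Q))]
    [Algebra Q Q'] [IsLocalization.AtPrime Q' q]
    [Algebra R' S'] [Algebra R S'] [IsScalarTower R S S'] [IsScalarTower R R' S']
    [Algebra S' Q'] [Algebra S Q'] [IsScalarTower S Q Q'] [IsScalarTower S S' Q']
    [Algebra R' Q'] [IsScalarTower R' S' Q'] [Algebra R Q'] [IsScalarTower R Q Q']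
    [IsLocalRing R'] [IsLocalRing S'] [IsLocalRing Q']
    [AddCommGroup M] [Module Q M] [Module.FinitePresentation Q M]
    (hflat : Module.Flat R (Q' ⊗[Q] M)) (hne : Nontrivial (Q' ⊗[Q] M))
    (hfib : Module.Flat (S' ⧸ (maximalIdeal R').map (algebraMap R' S'))
      ((S' ⧸ (maximalIdeal R').map (algebraMap R' S')) ⊗[S'] (Q' ⊗[Q] M))) :
    Module.Flat S' (Q' ⊗[Q] M) ∧ Module.Flat R' S' := by
  classical
  obtain ⟨k, πS, hπS, ⟨KS, hKS⟩⟩ := Algebra.FinitePresentation.out (R := R) (A := S)
  obtain ⟨n, m, π, hπ, ⟨K, hK⟩, W, ⟨Tg, hTg⟩, ⟨e⟩⟩ := exists_presentation (R := R) (S := Q) (M := M)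
  choose sl hsl using fun j => hπ (algebraMap S Q (πS (X j)))
  let hh : MvPolynomial (Fin k) R →ₐ[R] MvPolynomial (Fin n) R := aeval sl
  have hhh : ∀ p, π (hh p) = algebraMap S Q (πS p) := by
    have : π.comp hh = (IsScalarTower.toAlgHom R S Q).comp πS := algHom_ext fun j => by simp [hh, hsl]
    exact fun p => AlgHom.congr_fun this p
  letI : Module (MvPolynomial (Fin n) R) M := Module.compHom M π.toRingHom
  let K' : Finset (MvPolynomial (Fin n) R) := K ∪ KS.image hh
  have hK'ker : ∀ x ∈ K', π x = 0 := by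
    intro x hx
    rcases Finset.mem_union.1 hx with hx | hx
    · exact RingHom.mem_ker.1 (hK ▸ Ideal.subset_span hx)
    · obtain ⟨r, hr, rfl⟩ := Finset.mem_image.1 hx
      rw [hhh, show πS r = 0 from RingHom.mem_ker.1 (hKS ▸ Ideal.subset_span hr), map_zero]
  have hK' : Ideal.span (K' : Set (MvPolynomial (Fin n) R)) = RingHom.ker π.toRingHom :=
    le_antisymm (Ideal.span_le.2 fun x hx => RingHom.mem_ker.2 (hK'ker x hx))
      (hK ▸ Ideal.span_mono (by simp [K']))
  let T : Finset (Fin m → MvPolynomial (Fin n) R) :=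
    Tg ∪ (K' ×ˢ (Finset.univ : Finset (Fin m))).image fun p => Pi.single p.2 p.1
  have hsingle : ∀ x ∈ K', ∀ i, Pi.single i x ∈ W := by
    intro x hx i
    have e1 : Pi.single i x = x • (Pi.single i 1 : Fin m → MvPolynomial (Fin n) R) := by
      rw [← Pi.single_smul, smul_eq_mul, mul_one]
    rw [e1, ← Submodule.Quotient.mk_eq_zero, Submodule.Quotient.mk_smul]
    apply e.injective
    rw [map_zero, map_smul]
    change π x • e (Submodule.Quotient.mk _) = 0
    rw [hK'ker x hx, zero_smul]
  have hT : Submodule.span (MvPolynomial (Fin n) R) (T : Set (Fin m → MvPolynomial (Fin n) R)) = W := by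
    refine le_antisymm (Submodule.span_le.2 fun x hx => ?_) (hTg ▸ Submodule.span_mono (by simp [T]))
    rcases Finset.mem_union.1 hx with hx | hx
    · exact hTg ▸ Submodule.subset_span hx
    · obtain ⟨⟨x, i⟩, hxi, rfl⟩ := Finset.mem_image.1 hx
      exact hsingle x (Finset.mem_product.1 hxi).1 i
  let qh := q.comap π.toRingHom
  have hcomap : qh.primeCompl.map π.toRingHom = q.primeCompl := by
    ext s
    constructor
    · rintro ⟨p, hp, rfl⟩; exact hp
    · intro hs
      obtain ⟨p, rfl⟩ := hπ s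
      exact ⟨p, hs, rfl⟩
  letI : Module R M := Module.compHom M (algebraMap R Q)
  haveI : IsScalarTower R Q M := IsScalarTower.of_algebraMap_smul fun _ _ => rfl
  have hFl : Fl (⊥ : Ideal R) qh.primeCompl W := by
    refine (flat_localized_iff π W e _).1 ?_
    rw [hcomap]
    haveI : IsLocalizedModule q.primeCompl (TensorProduct.mk Q Q' M 1) :=
      (isLocalizedModule_iff_isBaseChange q.primeCompl Q' _).2 (TensorProduct.isBaseChange Q M Q')
    exact Module.Flat.of_linearEquiv
      ((IsLocalizedModule.iso q.primeCompl (TensorProduct.mk Q Q' M 1)).restrictScalars R)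
  -- lifts needed in the model: all relations, and the images of the generators of `S`
  let E : Finset (MvPolynomial (Fin n) R) := K' ∪ Finset.univ.image sl
  let KSc : Finset R := KS.biUnion fun r => r.support.image fun α => r.coeff α
  let E' : Finset (MvPolynomial (Fin n) R) := E ∪ KSc.image C
  obtain ⟨R₀, _, φ, hft, hφ, W₀, g₀, hW₀, hg₀, hfl, hTl, hEl⟩ := exists_model_fl' T hT E' hFl
  haveI : IsNoetherianRing R₀ := Algebra.FiniteType.isNoetherianRing ℤ R₀
  letI : Algebra R₀ R := φ.toAlgebra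
  choose e₀ he₀ using hEl
  have hmemK : ∀ x ∈ K', x ∈ E' := fun x hx => Finset.mem_union_left _ (Finset.mem_union_left _ hx)
  have hmemS : ∀ j, sl j ∈ E' := fun j =>
    Finset.mem_union_left _ (Finset.mem_union_right _ (Finset.mem_image_of_mem _ (Finset.mem_univ j)))
  -- lifts of the relations of `S`
  have hKSl : ∀ r ∈ KS, ∃ r₀ : MvPolynomial (Fin k) R₀, MvPolynomial.map φ r₀ = r := by
    intro r hr
    have hc : ∀ α : r.support, ∃ a, φ a = r.coeff α.1 := fun α => by
      obtain ⟨p₀, hp₀⟩ : ∃ p₀, MvPolynomial.map φ p₀ = C (r.coeff α.1) := ⟨_, he₀ _ (Finset.mem_union_right _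
        (Finset.mem_image_of_mem _ (Finset.mem_biUnion.2 ⟨r, hr, Finset.mem_image_of_mem _ α.2⟩)))⟩
      exact ⟨p₀.coeff 0, by rw [← coeff_map, hp₀, coeff_zero_C]⟩
    choose a ha using hc
    refine ⟨∑ α ∈ r.support.attach, monomial α.1 (a α), ?_⟩
    rw [map_sum]
    refine (Finset.sum_congr rfl fun α _ => (map_monomial _ _ _).trans (by rw [ha])).trans ?_
    exact (Finset.sum_attach r.support fun α => monomial α (r.coeff α)).trans r.as_sum.symm
  choose r₀ hr₀ using hKSl
  let sl₀ : Fin k → MvPolynomial (Fin n) R₀ := fun j => e₀ (sl j) (hmemS j)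
  let hh₀ : MvPolynomial (Fin k) R₀ →ₐ[R₀] MvPolynomial (Fin n) R₀ := aeval sl₀
  have hh₀map : ∀ p, MvPolynomial.map φ (hh₀ p) = hh (MvPolynomial.map φ p) := by
    have : (MvPolynomial.map φ).comp hh₀.toRingHom = hh.toRingHom.comp (MvPolynomial.map φ) :=
      ringHom_ext (fun a => by simp [hh₀, hh]) fun j => by simp [hh₀, hh, sl₀, he₀]
    exact fun p => RingHom.congr_fun this p
  let IS : Ideal (MvPolynomial (Fin k) R₀) := Ideal.span (Set.range fun r : KS => r₀ r.1 r.2)
  let J₀ : Ideal (MvPolynomial (Fin n) R₀) :=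
    Ideal.span (Set.range fun x : K' => e₀ x.1 (hmemK x.1 x.2))
  have hISJ : IS ≤ J₀.comap hh₀.toRingHom := by
    rw [Ideal.span_le]
    rintro _ ⟨⟨r, hr⟩, rfl⟩
    have hx : hh r ∈ K' := Finset.mem_union_right _ (Finset.mem_image_of_mem _ hr)
    have : hh₀ (r₀ r hr) = e₀ _ (hmemK _ hx) :=
      MvPolynomial.map_injective φ hφ (by rw [hh₀map, hr₀, he₀])
    exact show hh₀ (r₀ r hr) ∈ J₀ from this ▸ Ideal.subset_span ⟨⟨_, hx⟩, rfl⟩
  have hmapS : IS.map (MvPolynomial.map φ) = RingHom.ker πS.toRingHom := by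
    rw [Ideal.map_span, ← hKS, ← Set.range_comp]
    congr 1
    ext x
    constructor
    · rintro ⟨r, rfl⟩
      simp only [Function.comp_apply, hr₀]
      exact r.2
    · intro hx
      exact ⟨⟨x, hx⟩, hr₀ x hx⟩
  have hmapQ : J₀.map (MvPolynomial.map φ) = RingHom.ker π.toRingHom := by
    rw [Ideal.map_span, ← hK', ← Set.range_comp]
    congr 1
    ext x
    constructor
    · rintro ⟨r, rfl⟩
      simp only [Function.comp_apply, he₀]
      exact r.2
    · intro hx
      exact ⟨⟨x, hx⟩, he₀ x _⟩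
  let S₀ := MvPolynomial (Fin k) R₀ ⧸ IS
  let Q₀ := MvPolynomial (Fin n) R₀ ⧸ J₀
  let ψS : MvPolynomial (Fin k) R₀ →+* S := πS.toRingHom.comp (MvPolynomial.map φ)
  let ψQ : MvPolynomial (Fin n) R₀ →+* Q := π.toRingHom.comp (MvPolynomial.map φ)
  letI : Algebra S₀ S := (Ideal.Quotient.lift IS ψS fun a ha =>
    RingHom.mem_ker.1 (show MvPolynomial.map φ a ∈ RingHom.ker πS.toRingHom from
      hmapS ▸ Ideal.mem_map_of_mem _ ha)).toAlgebra
  letI : Algebra Q₀ Q := (Ideal.Quotient.lift J₀ ψQ fun a ha =>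
    RingHom.mem_ker.1 (show MvPolynomial.map φ a ∈ RingHom.ker π.toRingHom from
      hmapQ ▸ Ideal.mem_map_of_mem _ ha)).toAlgebra
  letI : Algebra S₀ Q₀ := (Ideal.quotientMap J₀ hh₀.toRingHom hISJ).toAlgebra
  haveI : IsScalarTower R₀ S₀ Q₀ := IsScalarTower.of_algebraMap_eq (R := R₀) (S := S₀) (A := Q₀) fun a => by
    change Ideal.Quotient.mk J₀ (C a) = Ideal.Quotient.mk J₀ (hh₀ (C a))
    simp [hh₀]
  letI : Algebra R₀ S := ((algebraMap R S).comp φ).toAlgebra
  letI : Algebra R₀ Q := ((algebraMap R Q).comp φ).toAlgebra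
  haveI : IsScalarTower R₀ R S := IsScalarTower.of_algebraMap_eq fun _ => rfl
  haveI : IsScalarTower R₀ R Q := IsScalarTower.of_algebraMap_eq fun _ => rfl
  haveI : IsScalarTower R₀ S₀ S := IsScalarTower.of_algebraMap_eq (R := R₀) (S := S₀) (A := S) fun a => by
    change algebraMap R S (φ a) = πS (MvPolynomial.map φ (C a))
    rw [map_C, ← MvPolynomial.algebraMap_eq, πS.commutes]
  haveI : IsScalarTower R₀ Q₀ Q := IsScalarTower.of_algebraMap_eq (R := R₀) (S := Q₀) (A := Q) fun a => by
    change algebraMap R Q (φ a) = π (MvPolynomial.map φ (C a))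
    rw [map_C, ← MvPolynomial.algebraMap_eq, π.commutes]
  letI : Algebra S₀ Q := ((algebraMap S Q).comp (algebraMap S₀ S)).toAlgebra
  haveI : IsScalarTower S₀ S Q := IsScalarTower.of_algebraMap_eq fun _ => rfl
  haveI : IsScalarTower S₀ Q₀ Q := IsScalarTower.of_algebraMap_eq (R := S₀) (S := Q₀) (A := Q) fun x => by
    obtain ⟨p, rfl⟩ := Ideal.Quotient.mk_surjective x
    change algebraMap S Q (πS (MvPolynomial.map φ p)) = π (MvPolynomial.map φ (hh₀ p))
    rw [hh₀map, hhh]
  haveI : IsScalarTower R₀ S Q := IsScalarTower.of_algebraMap_eq fun a => IsScalarTower.algebraMap_apply R S Q (φ a)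
  haveI hpS : Algebra.IsPushout R₀ R S₀ S := isPushout_model πS hπS IS hmapS fun _ => rfl
  haveI hpQ : Algebra.IsPushout R₀ R Q₀ Q := isPushout_model π hπ J₀ hmapQ fun _ => rfl
  haveI : Algebra.IsPushout S₀ S Q₀ Q := by
    haveI : Algebra.IsPushout R₀ S₀ R S := hpS.symm
    haveI : Algebra.IsPushout R₀ Q₀ R Q := hpQ.symm
    haveI : Algebra.IsPushout S₀ Q₀ S Q := (Algebra.IsPushout.comp_iff R₀ S₀ R S (T := Q₀) (T' := Q)).1 inferInstance
    exact Algebra.IsPushout.symm inferInstance
  haveI : IsNoetherianRing S₀ := inferInstance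
  haveI : IsNoetherianRing Q₀ := inferInstance
  -- the model of the module
  have hker₀ : ∀ x : (Fin m → MvPolynomial (Fin n) R₀) ⧸ W₀, ∀ a ∈ J₀, a • x = 0 := by
    intro x
    obtain ⟨y, rfl⟩ := Submodule.Quotient.mk_surjective W₀ x
    intro a ha
    induction ha using Submodule.span_induction with
    | mem a ha =>
      obtain ⟨⟨x, hx⟩, rfl⟩ := ha
      rw [← Submodule.Quotient.mk_smul, Submodule.Quotient.mk_eq_zero,
        show e₀ x (hmemK x hx) • y =
          ∑ i, y i • (Pi.single i (e₀ x (hmemK x hx)) : Fin m → MvPolynomial (Fin n) R₀) from ?_]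
      · refine sum_mem fun i _ => W₀.smul_mem _ ?_
        obtain ⟨x₀, hx₀, hx₀e⟩ := hTl (Pi.single i x)
          (Finset.mem_union_right _ (Finset.mem_image.2 ⟨(x, i), Finset.mem_product.2 ⟨hx, Finset.mem_univ i⟩, rfl⟩))
        have : x₀ = Pi.single i (e₀ x (hmemK x hx)) := by
          funext j
          apply MvPolynomial.map_injective φ hφ
          refine (congrFun hx₀e j).trans ?_
          rcases eq_or_ne j i with rfl | hji
          · simp [he₀]
          · simp [hji]
        exact this ▸ hx₀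
      · funext j
        rw [Finset.sum_apply, Pi.smul_apply, Finset.sum_eq_single j]
        · simp [mul_comm]
        · intro i _ hi; simp [Ne.symm hi]
        · simp
    | zero => rw [zero_smul]
    | add a b _ _ ha hb => rw [add_smul, ha, hb, add_zero]
    | smul c a _ ha => rw [smul_eq_mul, mul_smul, ha, smul_zero]
  let M₀ := (Fin m → MvPolynomial (Fin n) R₀) ⧸ W₀
  have htors : Module.IsTorsionBySet (MvPolynomial (Fin n) R₀) M₀ (J₀ : Set _) := fun x a => hker₀ x a.1 a.2
  letI : Module Q₀ M₀ := htors.module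
  haveI : IsScalarTower (MvPolynomial (Fin n) R₀) Q₀ M₀ := htors.isScalarTower
  haveI : IsScalarTower R₀ Q₀ M₀ := htors.isScalarTower
  haveI : Module.Finite Q₀ M₀ := Module.Finite.of_restrictScalars_finite (MvPolynomial (Fin n) R₀) _ _
  letI : Module Q₀ M := Module.compHom M (algebraMap Q₀ Q)
  haveI : IsScalarTower Q₀ Q M := IsScalarTower.of_algebraMap_smul fun _ _ => rfl
  letI : Module (MvPolynomial (Fin n) R₀) M := Module.compHom M ψQ
  let g : (Fin m → MvPolynomial (Fin n) R₀) →ₗ[MvPolynomial (Fin n) R₀] M :=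
    { toFun := fun y => e (Submodule.Quotient.mk (kL φ y))
      map_add' := fun a b => by rw [map_add, Submodule.Quotient.mk_add, map_add]
      map_smul' := fun p y => by
        rw [LinearMap.map_smulₛₗ, Submodule.Quotient.mk_smul, map_smul]
        rfl }
  have hg : W₀ ≤ LinearMap.ker g := fun w hw => by
    have : kL φ w ∈ W := hW₀ ▸ kL_mem_ext φ hw
    change e (Submodule.Quotient.mk (kL φ w)) = 0
    rw [(Submodule.Quotient.mk_eq_zero W).2 this, map_zero]
  let f : M₀ →ₗ[Q₀] M :=
    { toFun := W₀.liftQ g hg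
      map_add' := map_add _
      map_smul' := fun a x => by
        obtain ⟨p, rfl⟩ := Ideal.Quotient.mk_surjective a
        exact (W₀.liftQ g hg).map_smul p x }
  have hbc : IsBaseChange Q f := by
    refine IsBaseChange.of_lift_unique _ ?_
    intro V _ _ _ _ h
    letI : AddCommGroup V := Module.addCommMonoidToAddCommGroup Q
    letI : Module (MvPolynomial (Fin n) R) V := Module.compHom V π.toRingHom
    let G : (Fin m → MvPolynomial (Fin n) R) →ₗ[MvPolynomial (Fin n) R] V :=
      Fintype.linearCombination (MvPolynomial (Fin n) R) fun i => h (Submodule.Quotient.mk (Pi.single i 1))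
    have hG₀ : ∀ y, G (kL φ y) = h (Submodule.Quotient.mk y) := by
      intro y
      conv_rhs => rw [← (Finset.univ_sum_single y)]
      rw [← Submodule.mkQ_apply, map_sum, map_sum, Fintype.linearCombination_apply]
      refine Finset.sum_congr rfl fun i _ => ?_
      rw [show Pi.single i (y i) = y i • (Pi.single i 1 : Fin m → MvPolynomial (Fin n) R₀) by
        rw [← Pi.single_smul, smul_eq_mul, mul_one], map_smul W₀.mkQ,
        ← IsScalarTower.algebraMap_smul Q₀ (y i), map_smul h]
      exact IsScalarTower.algebraMap_smul Q (Ideal.Quotient.mk J₀ (y i)) (h (W₀.mkQ (Pi.single i 1)))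
    have hGW : W ≤ LinearMap.ker G := by
      rw [← hW₀, FlatSpread.ext, Submodule.span_le]
      rintro _ ⟨w, hw, rfl⟩
      change G (kL φ w) = 0
      rw [hG₀, (Submodule.Quotient.mk_eq_zero W₀).2 hw, map_zero]
    let g' : M →ₗ[Q] V :=
      { toFun := fun x => W.liftQ G hGW (e.symm x)
        map_add' := fun a b => by rw [map_add, map_add]
        map_smul' := fun s x => by
          obtain ⟨p, rfl⟩ := hπ s
          change W.liftQ G hGW (e.symm (p • x)) = p • W.liftQ G hGW (e.symm x)
          rw [map_smul, map_smul] }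
    have hg' : ∀ y, g' (e (Submodule.Quotient.mk y)) = G y := fun y => by
      change W.liftQ G hGW (e.symm (e _)) = _
      rw [LinearEquiv.symm_apply_apply]
      rfl
    refine ⟨g', ?_, fun g'' hg'' => ?_⟩
    · ext x
      obtain ⟨y, rfl⟩ := Submodule.Quotient.mk_surjective W₀ x
      exact (hg' (kL φ y)).trans (hG₀ y)
    · ext x
      obtain ⟨w, rfl⟩ := e.surjective x
      obtain ⟨y, rfl⟩ := Submodule.Quotient.mk_surjective W w
      rw [hg', ← Finset.univ_sum_single y, ← Submodule.mkQ_apply, map_sum, map_sum, map_sum, map_sum]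
      refine Finset.sum_congr rfl fun i _ => ?_
      rw [show Pi.single i (y i) = y i • (Pi.single i 1 : Fin m → MvPolynomial (Fin n) R) by
        rw [← Pi.single_smul, smul_eq_mul, mul_one], map_smul W.mkQ, map_smul e, map_smul G]
      change g'' (π (y i) • e _) = π (y i) • _
      rw [map_smul]
      congr 1
      have h1 : kL φ (Pi.single i 1) = (Pi.single i 1 : Fin m → MvPolynomial (Fin n) R) := by
        funext j
        change MvPolynomial.map φ ((Pi.single i 1 : Fin m → MvPolynomial (Fin n) R₀) j) = _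
        rcases eq_or_ne j i with rfl | hji <;> simp [*]
      rw [← h1, hG₀, ← hg'']
      rfl
  letI : Algebra Q₀ Q' := ((algebraMap Q Q').comp (algebraMap Q₀ Q)).toAlgebra
  haveI : IsScalarTower Q₀ Q Q' := IsScalarTower.of_algebraMap_eq fun _ => rfl
  let eX : Q' ⊗[Q] M ≃ₗ[Q'] Q' ⊗[Q₀] M₀ :=
    AlgebraTensorModule.congr (LinearEquiv.refl Q' Q') hbc.equiv.symm ≪≫ₗ
      AlgebraTensorModule.cancelBaseChange Q₀ Q Q' Q' M₀
  have hflat₀ : Module.Flat R₀ (Localization.AtPrime (q.comap (algebraMap Q₀ Q)) ⊗[Q₀] M₀) := by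
    let q₀ := q.comap (algebraMap Q₀ Q)
    let π₀ : MvPolynomial (Fin n) R₀ →ₐ[R₀] Q₀ := Ideal.Quotient.mkₐ R₀ J₀
    have hc₀ : (q₀.comap π₀.toRingHom).primeCompl.map π₀.toRingHom = q₀.primeCompl := by
      ext s
      constructor
      · rintro ⟨p, hp, rfl⟩; exact hp
      · intro hs
        obtain ⟨p, rfl⟩ := Ideal.Quotient.mk_surjective s
        exact ⟨p, hs, rfl⟩
    let e₁ : letI : Module (MvPolynomial (Fin n) R₀) M₀ := Module.compHom M₀ π₀.toRingHom
        ((Fin m → MvPolynomial (Fin n) R₀) ⧸ W₀) ≃ₗ[MvPolynomial (Fin n) R₀] M₀ :=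
      letI : Module (MvPolynomial (Fin n) R₀) M₀ := Module.compHom M₀ π₀.toRingHom
      { toFun := fun x => x
        invFun := fun x => x
        map_add' := fun _ _ => rfl
        map_smul' := fun _ _ => rfl }
    have hfl₀ : Fl (⊥ : Ideal R₀) (q₀.comap π₀.toRingHom).primeCompl W₀ :=
      hfl.mono_monoid fun s hs => ⟨s, (Submonoid.powers_le.2 (show g₀ ∈ (q₀.comap π₀.toRingHom).primeCompl from hg₀)) hs,
        dvd_rfl⟩
    have h1 := (flat_localized_iff π₀ W₀ e₁ _).2 hfl₀
    rw [hc₀] at h1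
    exact Module.Flat.of_linearEquiv
      ((LocalizedModule.equivTensorProduct q₀.primeCompl M₀).restrictScalars R₀).symm
  haveI : Module.Flat (S' ⧸ (maximalIdeal R').map (algebraMap R' S'))
      ((S' ⧸ (maximalIdeal R').map (algebraMap R' S')) ⊗[S'] (Q' ⊗[Q₀] M₀)) :=
    Module.Flat.of_linearEquiv (AlgebraTensorModule.congr (LinearEquiv.refl _ _) (eX.restrictScalars S').symm)
  obtain ⟨h1, h2⟩ := model_fibre (R₀ := R₀) (S₀ := S₀) (Q₀ := Q₀) (R := R) (S := S) (R' := R') (S' := S') (Q' := Q')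
    (M₀ := M₀) q hflat₀ eX.symm.toEquiv.nontrivial inferInstance
  exact ⟨Module.Flat.of_linearEquiv (eX.restrictScalars S'), h2⟩

end Groth.Agent.FibCrit
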