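import Mathlib
import Groth.Agent.FibCrit.FP

/-!
The fibrewise criterion when the middle algebra is only of finite type, and openness of the locus.
-/

universe u

set_option linter.style.haveILetI false

open TensorProduct IsLocalRing Groth.Agent.FlatSpread

namespace Groth.Agent.FibCrit

/-- Elements killed in the fibre lie in the extension of the prime to the local ring. -/
theorem mem_map_localization {R P S₀ : Type u} [CommRing R] [CommRing P] [CommRing S₀] [Algebra R P] [Algebra R S₀]
    {p : Ideal R} [p.IsPrime] (y₀ : Ideal S₀) [y₀.IsPrime] (hy : y₀.comap (algebraMap R S₀) = p) (ρ : P →ₐ[R] S₀)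
    {F : Finset P} (hF : ∀ f ∈ F, ρ f = 0) (x : P)
    (hx : (1 : p.ResidueField) ⊗ₜ[R] x ∈ Submodule.span (p.ResidueField ⊗[R] P)
      ((fun z => (1 : p.ResidueField) ⊗ₜ[R] z) '' (F : Set P))) :
    algebraMap S₀ (Localization.AtPrime y₀) (ρ x) ∈ p.map (algebraMap R (Localization.AtPrime y₀)) := by
  let L := Localization.AtPrime y₀
  let 𝔞 : Ideal L := p.map (algebraMap R L)
  have hunit : ∀ r ∈ p.primeCompl, IsUnit (algebraMap R (L ⧸ 𝔞) r) := fun r hr => by
    rw [IsScalarTower.algebraMap_apply R L (L ⧸ 𝔞), IsScalarTower.algebraMap_apply R S₀ L]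
    exact (IsLocalization.map_units L (⟨algebraMap R S₀ r, fun h => hr (hy ▸ h)⟩ : y₀.primeCompl)).map _
  let cκ : p.ResidueField →ₐ[R] L ⧸ 𝔞 := AlgHom.mk (Ideal.ResidueField.lift p (algebraMap R (L ⧸ 𝔞))
      (fun r hr => RingHom.mem_ker.2 (by
        rw [IsScalarTower.algebraMap_apply R L (L ⧸ 𝔞)]
        exact Ideal.Quotient.eq_zero_iff_mem.2 (Ideal.mem_map_of_mem _ hr)))
      fun r hr => hunit r hr) fun r => Ideal.ResidueField.lift_algebraMap ..
  let ev : p.ResidueField ⊗[R] P →ₐ[R] L ⧸ 𝔞 := Algebra.TensorProduct.lift cκ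
    (((Ideal.Quotient.mkₐ R 𝔞).comp (IsScalarTower.toAlgHom R S₀ L)).comp ρ)
    fun _ _ => Commute.all _ _
  have hev : ∀ z, ev ((1 : p.ResidueField) ⊗ₜ[R] z) = Ideal.Quotient.mk 𝔞 (algebraMap S₀ L (ρ z)) := fun z => by
    simp [ev]
  have hle : Submodule.span (p.ResidueField ⊗[R] P) ((fun z => (1 : p.ResidueField) ⊗ₜ[R] z) '' (F : Set P)) ≤
      RingHom.ker ev.toRingHom := by
    rw [Submodule.span_le]
    rintro _ ⟨f, hf, rfl⟩
    change ev _ = 0
    rw [hev, hF f hf, map_zero, map_zero]
  have h : ev ((1 : p.ResidueField) ⊗ₜ[R] x) = 0 := hle hx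
  rw [hev] at h
  exact Ideal.Quotient.eq_zero_iff_mem.1 h

/-- A finite type algebra has a finitely presented cover with the same fibre at a prime. -/
theorem exists_fp_cover {R S : Type u} [CommRing R] [CommRing S] [Algebra R S] [Algebra.FiniteType R S]
    (y : Ideal S) [y.IsPrime] :
    ∃ (S₀ : Type u) (_ : CommRing S₀) (_ : Algebra R S₀) (_ : Algebra S₀ S), IsScalarTower R S₀ S ∧
      Algebra.FinitePresentation R S₀ ∧ Function.Surjective (algebraMap S₀ S) ∧
      ∀ a ∈ RingHom.ker (algebraMap S₀ S), algebraMap S₀ (Localization.AtPrime (y.comap (algebraMap S₀ S))) a ∈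
        (y.comap (algebraMap R S)).map (algebraMap R (Localization.AtPrime (y.comap (algebraMap S₀ S)))) := by
  classical
  obtain ⟨k, π, hπ⟩ := Algebra.FiniteType.iff_quotient_mvPolynomial''.1 ‹Algebra.FiniteType R S›
  let p := y.comap (algebraMap R S)
  let κ := p.ResidueField
  let G := κ ⊗[R] MvPolynomial (Fin k) R
  haveI : IsNoetherianRing G := Algebra.FiniteType.isNoetherianRing κ G
  let inc : MvPolynomial (Fin k) R → G := fun x => (1 : κ) ⊗ₜ[R] x
  obtain ⟨F', hF', hspan⟩ := (Submodule.fg_span_iff_fg_span_finset_subset (R := G)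
    (inc '' (RingHom.ker π.toRingHom : Set (MvPolynomial (Fin k) R)))).1 (IsNoetherian.noetherian _)
  obtain ⟨F, hFs, rfl⟩ := Finset.subset_set_image_iff.1 hF'
  let I : Ideal (MvPolynomial (Fin k) R) := Ideal.span (F : Set (MvPolynomial (Fin k) R))
  have hI : ∀ a ∈ I, π a = 0 := fun a ha =>
    RingHom.mem_ker.1 (Ideal.span_le.2 hFs ha : a ∈ RingHom.ker π.toRingHom)
  let S₀ := MvPolynomial (Fin k) R ⧸ I
  letI : Algebra S₀ S := (Ideal.Quotient.lift I π.toRingHom hI).toAlgebra
  have htow : IsScalarTower R S₀ S := IsScalarTower.of_algebraMap_eq (R := R) (S := S₀) (A := S) fun r =>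
    (π.commutes r).symm
  refine ⟨S₀, inferInstance, inferInstance, inferInstance, htow,
    Algebra.FinitePresentation.quotient ⟨F, rfl⟩, fun s => ?_, fun a ha => ?_⟩
  · obtain ⟨x, rfl⟩ := hπ s
    exact ⟨Ideal.Quotient.mk I x, rfl⟩
  obtain ⟨x, rfl⟩ := Ideal.Quotient.mk_surjective a
  refine mem_map_localization (p := p) (y.comap (algebraMap S₀ S)) ?_ (Ideal.Quotient.mkₐ R I) (F := F)
    (fun f hf => Ideal.Quotient.eq_zero_iff_mem.2 (Ideal.subset_span hf)) x ?_
  · rw [Ideal.comap_comap, ← IsScalarTower.algebraMap_eq R S₀ S]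
  · have hx : inc x ∈ Submodule.span G (inc '' (RingHom.ker π.toRingHom : Set (MvPolynomial (Fin k) R))) :=
      Submodule.subset_span ⟨x, ha, rfl⟩
    rw [hspan, Finset.coe_image] at hx
    exact hx

/-- A surjection of local rings through which a faithfully flat module factors is bijective. -/
theorem injective_of_flat {A₀ A B M : Type u} [CommRing A₀] [CommRing A] [CommRing B] [IsLocalRing A₀]
    [IsLocalRing B] [Algebra A₀ A] [Algebra A B] [Algebra A₀ B] [IsScalarTower A₀ A B]
    [IsLocalHom (algebraMap A₀ B)] [AddCommGroup M] [Module B M] [Module A M] [Module A₀ M] [IsScalarTower A₀ B M]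
    [IsScalarTower A₀ A M] [Module.Finite B M] [Nontrivial M] [Module.Flat A₀ M] :
    Function.Injective (algebraMap A₀ A) := by
  haveI : Module.FaithfullyFlat A₀ M := ⟨fun m hm htop => by
    obtain rfl := IsLocalRing.eq_maximalIdeal hm
    have h1 : (⊤ : Submodule B M) ≤ ((IsLocalRing.maximalIdeal A₀).map (algebraMap A₀ B)) • ⊤ := by
      intro x _
      exact Groth.Agent.LocalCrit.smul_top_le_restrictScalars (R := A₀) (S := B) M _ (htop.symm ▸ Submodule.mem_top)
    exact top_ne_bot (Submodule.eq_bot_of_le_smul_of_le_jacobson_bot _ _ Module.Finite.fg_top h1 (by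
      rw [IsLocalRing.jacobson_eq_maximalIdeal (⊥ : Ideal B) bot_ne_top]
      exact Groth.Agent.LocalCrit.map_maximalIdeal_le (R := A₀) (S := B)))⟩
  refine (injective_iff_map_eq_zero _).2 fun a ha => ?_
  let l : A₀ →ₗ[A₀] A₀ := LinearMap.lsmul A₀ A₀ a
  have : l.lTensor M = 0 := TensorProduct.ext' fun m b => by
    simp only [LinearMap.lTensor_tmul, LinearMap.zero_apply, l, LinearMap.lsmul_apply]
    rw [smul_eq_mul, ← smul_eq_mul, tmul_smul, smul_tmul', ← IsScalarTower.algebraMap_smul A a m, ha, zero_smul,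
      zero_tmul]
  have hl : l = 0 := (Module.FaithfullyFlat.zero_iff_lTensor_zero A₀ M l).2 this
  simpa [l] using LinearMap.congr_fun hl 1

/-- The kernel of the local map of a cover with the same fibre. -/
theorem localCover {R S₀ S L₀ L : Type u} [CommRing R] [CommRing S₀] [CommRing S] [CommRing L₀] [CommRing L]
    [Algebra R L₀] [Algebra R L] [Algebra S₀ S] [Algebra S₀ L₀] [Algebra S L] [Algebra L₀ L] [Algebra S₀ L]
    [IsScalarTower S₀ S L] [IsScalarTower S₀ L₀ L] [IsScalarTower R L₀ L]
    (y : Ideal S) [y.IsPrime] [IsLocalization.AtPrime L y] [IsLocalization.AtPrime L₀ (y.comap (algebraMap S₀ S))]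
    (hsurj : Function.Surjective (algebraMap S₀ S)) (p : Ideal R)
    (hker : ∀ a ∈ RingHom.ker (algebraMap S₀ S), algebraMap S₀ L₀ a ∈ p.map (algebraMap R L₀)) :
    Function.Surjective (algebraMap L₀ L) ∧ RingHom.ker (algebraMap L₀ L) ≤ p.map (algebraMap R L₀) := by
  refine ⟨fun x => ?_, fun x hx => ?_⟩
  · obtain ⟨⟨a, s⟩, has⟩ := IsLocalization.surj y.primeCompl x
    obtain ⟨a, rfl⟩ := hsurj a
    obtain ⟨t, ht⟩ := hsurj (s : S)
    have htu : IsUnit (algebraMap S₀ L₀ t) :=
      IsLocalization.map_units L₀ (⟨t, fun h => s.2 (ht ▸ h)⟩ : (y.comap (algebraMap S₀ S)).primeCompl)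
    refine ⟨algebraMap S₀ L₀ a * ↑htu.unit⁻¹, (IsLocalization.map_units L s).mul_left_inj.1 ?_⟩
    change _ * algebraMap S L s = x * algebraMap S L s
    rw [has, ← IsScalarTower.algebraMap_apply S₀ S L, ← ht, ← IsScalarTower.algebraMap_apply S₀ S L,
      IsScalarTower.algebraMap_apply S₀ L₀ L t, ← map_mul, mul_assoc, IsUnit.val_inv_mul, mul_one,
      ← IsScalarTower.algebraMap_apply]
  · obtain ⟨⟨a, s⟩, has⟩ := IsLocalization.surj (y.comap (algebraMap S₀ S)).primeCompl x
    have h0 : algebraMap S L (algebraMap S₀ S a) = 0 := by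
      rw [← IsScalarTower.algebraMap_apply, IsScalarTower.algebraMap_apply S₀ L₀ L, ← has, map_mul,
        RingHom.mem_ker.1 hx, zero_mul]
    obtain ⟨c, hc⟩ := (IsLocalization.map_eq_zero_iff y.primeCompl L _).1 h0
    obtain ⟨c₀, hc₀⟩ := hsurj (c : S)
    have := hker (c₀ * a) (by rw [RingHom.mem_ker, map_mul, hc₀, hc])
    rw [map_mul, Ideal.unit_mul_mem_iff_mem _ (IsLocalization.map_units L₀
      (⟨c₀, fun h => c.2 (hc₀ ▸ h)⟩ : (y.comap (algebraMap S₀ S)).primeCompl))] at this
    exact (Ideal.mul_unit_mem_iff_mem _ (IsLocalization.map_units L₀ s)).1 (has ▸ this)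

/-- **Fibrewise criterion of flatness**: finite type middle algebra. -/
theorem ft_fibre {R S Q R' S' Q' M : Type u} [CommRing R] [CommRing S] [CommRing Q] [CommRing R'] [CommRing S']
    [CommRing Q'] [Algebra R S] [Algebra S Q] [Algebra R Q] [IsScalarTower R S Q]
    [Algebra.FiniteType R S] [Algebra.FinitePresentation R Q]
    (q : Ideal Q) [q.IsPrime]
    [Algebra R R'] [IsLocalization.AtPrime R' (q.comap (algebraMap R Q))]
    [Algebra S S'] [IsLocalization.AtPrime S' (q.comap (algebraMap S Q))]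
    [Algebra Q Q'] [IsLocalization.AtPrime Q' q]
    [Algebra R' S'] [Algebra R S'] [IsScalarTower R S S'] [IsScalarTower R R' S']
    [Algebra S' Q'] [Algebra S Q'] [IsScalarTower S Q Q'] [IsScalarTower S S' Q']
    [Algebra R' Q'] [IsScalarTower R' S' Q'] [Algebra R Q'] [IsScalarTower R Q Q']
    [IsLocalRing R'] [IsLocalRing S'] [IsLocalRing Q']
    [AddCommGroup M] [Module Q M] [Module.FinitePresentation Q M]
    (hflat : Module.Flat R (Q' ⊗[Q] M)) (hne : Nontrivial (Q' ⊗[Q] M))
    (hfib : Module.Flat (S' ⧸ (maximalIdeal R').map (algebraMap R' S'))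
      ((S' ⧸ (maximalIdeal R').map (algebraMap R' S')) ⊗[S'] (Q' ⊗[Q] M))) :
    Module.Flat S' (Q' ⊗[Q] M) ∧ Module.Flat R' S' ∧
      ∃ (S₀ : Type u) (_ : CommRing S₀) (_ : Algebra R S₀) (_ : Algebra S₀ S), IsScalarTower R S₀ S ∧
        Algebra.FinitePresentation R S₀ ∧ Function.Surjective (algebraMap S₀ S) ∧
        ∀ a ∈ RingHom.ker (algebraMap S₀ S),
          algebraMap S₀ (Localization.AtPrime ((q.comap (algebraMap S Q)).comap (algebraMap S₀ S))) a = 0 := by
  let y := q.comap (algebraMap S Q)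
  obtain ⟨S₀, _, _, _, htow, hfp, hsurj, hker⟩ := exists_fp_cover (R := R) y
  haveI := htow
  haveI := hfp
  let y₀ := y.comap (algebraMap S₀ S)
  let L := Localization.AtPrime y₀
  have hp : y.comap (algebraMap R S) = q.comap (algebraMap R Q) := by
    rw [Ideal.comap_comap, ← IsScalarTower.algebraMap_eq]
  have hy₀ : ∀ x : y₀.primeCompl, IsUnit ((algebraMap S S').comp (algebraMap S₀ S) x) := fun x =>
    IsLocalization.map_units S' (⟨algebraMap S₀ S x, x.2⟩ : y.primeCompl)
  letI : Algebra L S' := (IsLocalization.lift hy₀).toAlgebra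
  letI : Algebra S₀ S' := ((algebraMap S S').comp (algebraMap S₀ S)).toAlgebra
  haveI : IsScalarTower S₀ S S' := IsScalarTower.of_algebraMap_eq fun _ => rfl
  haveI : IsScalarTower S₀ L S' := IsScalarTower.of_algebraMap_eq fun a => (IsLocalization.lift_eq hy₀ a).symm
  haveI : IsScalarTower R L S' := IsScalarTower.of_algebraMap_eq fun a => by
    rw [IsScalarTower.algebraMap_apply R S₀ L, ← IsScalarTower.algebraMap_apply S₀ L S',
      IsScalarTower.algebraMap_apply S₀ S S', ← IsScalarTower.algebraMap_apply R S₀ S,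
      ← IsScalarTower.algebraMap_apply R S S']
  have hpR : ∀ x : (q.comap (algebraMap R Q)).primeCompl, IsUnit (algebraMap R L x) := fun x => by
    rw [IsScalarTower.algebraMap_apply R S₀ L]
    refine IsLocalization.map_units L (⟨algebraMap R S₀ x, fun h => x.2 ?_⟩ : y₀.primeCompl)
    refine hp.le ?_
    rw [Ideal.mem_comap, IsScalarTower.algebraMap_apply R S₀ S]
    exact h
  letI : Algebra R' L := (IsLocalization.lift hpR).toAlgebra
  haveI : IsScalarTower R R' L := IsScalarTower.of_algebraMap_eq fun a => (IsLocalization.lift_eq hpR a).symm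
  haveI : IsScalarTower R' L S' := IsScalarTower.of_algebraMap_eq' <|
    IsLocalization.ringHom_ext (q.comap (algebraMap R Q)).primeCompl (RingHom.ext fun a => by
      simp only [RingHom.comp_apply]
      rw [← IsScalarTower.algebraMap_apply R R' S', ← IsScalarTower.algebraMap_apply R R' L,
        ← IsScalarTower.algebraMap_apply R L S'])
  letI : Algebra L Q' := ((algebraMap S' Q').comp (algebraMap L S')).toAlgebra
  haveI : IsScalarTower L S' Q' := IsScalarTower.of_algebraMap_eq fun _ => rfl
  letI : Algebra S₀ Q := ((algebraMap S Q).comp (algebraMap S₀ S)).toAlgebra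
  haveI : IsScalarTower S₀ S Q := IsScalarTower.of_algebraMap_eq fun _ => rfl
  letI : Algebra S₀ Q' := ((algebraMap Q Q').comp (algebraMap S₀ Q)).toAlgebra
  haveI : IsScalarTower S₀ Q Q' := IsScalarTower.of_algebraMap_eq fun _ => rfl
  haveI : IsScalarTower R S₀ Q := IsScalarTower.of_algebraMap_eq fun a => by
    rw [IsScalarTower.algebraMap_apply S₀ S Q, ← IsScalarTower.algebraMap_apply R S₀ S,
      ← IsScalarTower.algebraMap_apply R S Q]
  haveI : IsScalarTower S₀ L Q' := IsScalarTower.of_algebraMap_eq fun a => by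
    rw [IsScalarTower.algebraMap_apply L S' Q', ← IsScalarTower.algebraMap_apply S₀ L S',
      IsScalarTower.algebraMap_apply S₀ S S', ← IsScalarTower.algebraMap_apply S S' Q',
      IsScalarTower.algebraMap_apply S Q Q', ← IsScalarTower.algebraMap_apply S₀ S Q,
      ← IsScalarTower.algebraMap_apply S₀ Q Q']
  haveI : IsScalarTower R' L Q' := IsScalarTower.of_algebraMap_eq fun a => by
    rw [IsScalarTower.algebraMap_apply L S' Q', ← IsScalarTower.algebraMap_apply R' L S',
      ← IsScalarTower.algebraMap_apply R' S' Q']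
  haveI : IsLocalization.AtPrime L (q.comap (algebraMap S₀ Q)) := by
    have : q.comap (algebraMap S₀ Q) = y₀ := by rw [IsScalarTower.algebraMap_eq S₀ S Q, ← Ideal.comap_comap]
    simp only [this]
    infer_instance
  have hmR : (maximalIdeal R').map (algebraMap R' L) = (y.comap (algebraMap R S)).map (algebraMap R L) := by
    rw [← IsLocalization.AtPrime.map_eq_maximalIdeal (q.comap (algebraMap R Q)) R', Ideal.map_map,
      ← IsScalarTower.algebraMap_eq, hp]
  obtain ⟨hLsurj, hLker⟩ := localCover (L₀ := L) (L := S') y hsurj _ hker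
  let I₀ := (maximalIdeal R').map (algebraMap R' L)
  let I := (maximalIdeal R').map (algebraMap R' S')
  have hI : I = I₀.map (algebraMap L S') := by rw [Ideal.map_map, ← IsScalarTower.algebraMap_eq]
  letI : Algebra (L ⧸ I₀) (S' ⧸ I) := (Ideal.quotientMap I (algebraMap L S') (hI ▸ Ideal.le_comap_map)).toAlgebra
  haveI : IsScalarTower L (L ⧸ I₀) (S' ⧸ I) := IsScalarTower.of_algebraMap_eq (R := L) (S := L ⧸ I₀) (A := S' ⧸ I) fun _ => rfl
  have hbij : Function.Bijective (algebraMap (L ⧸ I₀) (S' ⧸ I)) := by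
    refine ⟨(injective_iff_map_eq_zero _).2 fun a ha => ?_, fun b => ?_⟩
    · obtain ⟨a, rfl⟩ := Ideal.Quotient.mk_surjective a
      have : algebraMap L S' a ∈ I := Ideal.Quotient.eq_zero_iff_mem.1 ha
      rw [hI, Ideal.mem_map_iff_of_surjective _ hLsurj] at this
      obtain ⟨b, hb, hba⟩ := this
      refine Ideal.Quotient.eq_zero_iff_mem.2 ?_
      have hab : a - b ∈ RingHom.ker (algebraMap L S') := by rw [RingHom.mem_ker, map_sub, hba, sub_self]
      simpa using I₀.add_mem (hmR.symm.le (hLker hab) : a - b ∈ I₀) hb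
    · obtain ⟨b, rfl⟩ := Ideal.Quotient.mk_surjective b
      obtain ⟨a, rfl⟩ := hLsurj b
      exact ⟨Ideal.Quotient.mk I₀ a, rfl⟩
  haveI := isPushout_quot (A := L) (B := S') I₀ (J := I) hI
  haveI : Module.Flat (L ⧸ I₀) (S' ⧸ I) :=
    Module.Flat.of_linearEquiv (LinearEquiv.ofBijective (Algebra.linearMap (L ⧸ I₀) (S' ⧸ I)) hbij).symm
  haveI : Module.Flat (S' ⧸ I) ((S' ⧸ I) ⊗[S'] (Q' ⊗[Q] M)) := hfib
  haveI : Module.Flat (L ⧸ I₀) ((S' ⧸ I) ⊗[S'] (Q' ⊗[Q] M)) := Module.Flat.trans _ (S' ⧸ I) _
  haveI : Module.Flat (L ⧸ I₀) ((L ⧸ I₀) ⊗[L] (Q' ⊗[Q] M)) :=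
    Module.Flat.of_linearEquiv (Algebra.IsPushout.cancelBaseChange L (L ⧸ I₀) S' (S' ⧸ I) (Q' ⊗[Q] M)).symm
  obtain ⟨hX, hL⟩ := fp_fibre (R := R) (S := S₀) (S' := L) (R' := R') (Q' := Q') (M := M) q hflat hne inferInstance
  haveI := hne
  haveI := hX
  haveI : IsLocalHom (algebraMap L Q') := isLocalHom_of_atPrime y₀ _ (by
    rw [← IsScalarTower.algebraMap_eq, IsScalarTower.algebraMap_eq S₀ Q Q', ← Ideal.comap_comap,
      show Ideal.comap (algebraMap Q Q') (maximalIdeal Q') = q from IsLocalization.AtPrime.comap_maximalIdeal Q' q,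
      IsScalarTower.algebraMap_eq S₀ S Q, ← Ideal.comap_comap])
  have hinj : Function.Injective (algebraMap L S') := injective_of_flat (B := Q') (M := Q' ⊗[Q] M)
  haveI : Algebra.IsEpi L S' := Algebra.isEpi_of_surjective_algebraMap L S' hLsurj
  refine ⟨?_, ?_, S₀, inferInstance, inferInstance, inferInstance, htow, hfp, hsurj, fun a ha => ?_⟩
  · haveI : Module.Flat L (Q' ⊗[Q] M) := hX
    exact flat_of_isEpi (S := L)
  · haveI := hL
    exact Module.Flat.of_linearEquiv
      ((LinearEquiv.ofBijective (Algebra.linearMap L S') ⟨hinj, hLsurj⟩).restrictScalars R').symm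
  · refine hinj ?_
    rw [map_zero, ← IsScalarTower.algebraMap_apply, IsScalarTower.algebraMap_apply S₀ S S',
      RingHom.mem_ker.1 ha, map_zero]

/-- **Openness of the locus of the fibrewise criterion.** -/
theorem isOpen_locus {R S Q : Type u} [CommRing R] [CommRing S] [CommRing Q] [Algebra R S] [Algebra S Q]
    [Algebra R Q] [IsScalarTower R S Q] [Algebra.FiniteType R S] [Algebra.FinitePresentation R Q] :
    IsOpen {q : PrimeSpectrum Q | Module.Flat R (Localization.AtPrime (q.asIdeal.comap (algebraMap S Q))) ∧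
      Module.Flat S (Localization.AtPrime q.asIdeal)} := by
  refine isOpen_iff_forall_mem_open.2 fun q ⟨hR, hS⟩ => ?_
  let y := q.asIdeal.comap (algebraMap S Q)
  let p := q.asIdeal.comap (algebraMap R Q)
  let R' := Localization.AtPrime p
  let S' := Localization.AtPrime y
  let Q' := Localization.AtPrime q.asIdeal
  have hpy : p = y.comap (algebraMap R S) := by
    rw [Ideal.comap_comap, ← IsScalarTower.algebraMap_eq]
  letI : Algebra R' S' := (Localization.localRingHom p y (algebraMap R S) hpy).toAlgebra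
  letI : Algebra S' Q' := (Localization.localRingHom y q.asIdeal (algebraMap S Q) rfl).toAlgebra
  letI : Algebra R' Q' := ((algebraMap S' Q').comp (algebraMap R' S')).toAlgebra
  haveI : IsScalarTower R' S' Q' := IsScalarTower.of_algebraMap_eq fun _ => rfl
  haveI : IsScalarTower R R' S' := IsScalarTower.of_algebraMap_eq fun a => by
    rw [IsScalarTower.algebraMap_apply R S S']
    exact (Localization.localRingHom_to_map _ _ _ hpy a).symm
  haveI : IsScalarTower S S' Q' := IsScalarTower.of_algebraMap_eq fun a => by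
    rw [IsScalarTower.algebraMap_apply S Q Q']
    exact (Localization.localRingHom_to_map _ _ _ rfl a).symm
  haveI := hR
  haveI := hS
  haveI : Module.Flat S' Q' := (Module.flat_iff_of_isLocalization S' y.primeCompl Q').2 hS
  haveI : IsScalarTower R S' Q' := IsScalarTower.of_algebraMap_eq fun a => by
    rw [IsScalarTower.algebraMap_apply R S S', ← IsScalarTower.algebraMap_apply S S' Q',
      ← IsScalarTower.algebraMap_apply R S Q']
  haveI : Module.Flat R Q' := Module.Flat.trans R S' Q'
  let eX : Q' ⊗[Q] Q ≃ₗ[Q'] Q' := AlgebraTensorModule.rid Q Q' Q'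
  haveI : Module.Flat R (Q' ⊗[Q] Q) := Module.Flat.of_linearEquiv (eX.restrictScalars R)
  haveI : Module.Flat S' (Q' ⊗[Q] Q) := Module.Flat.of_linearEquiv (eX.restrictScalars S')
  obtain ⟨-, -, S₀, _, _, _, htow, hfp, hsurj, hker⟩ := ft_fibre (R := R) (S := S) (R' := R') (S' := S') (Q' := Q')
    (M := Q) q.asIdeal inferInstance eX.toEquiv.nontrivial inferInstance
  haveI := htow
  haveI := hfp
  letI : Algebra S₀ Q := ((algebraMap S Q).comp (algebraMap S₀ S)).toAlgebra
  haveI : IsScalarTower S₀ S Q := IsScalarTower.of_algebraMap_eq fun _ => rfl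
  haveI : IsScalarTower R S₀ Q := IsScalarTower.of_algebraMap_eq fun a => by
    rw [IsScalarTower.algebraMap_apply S₀ S Q, ← IsScalarTower.algebraMap_apply R S₀ S,
      ← IsScalarTower.algebraMap_apply R S Q]
  haveI : Algebra.FinitePresentation S₀ Q := Algebra.FinitePresentation.of_restrict_scalars_finitePresentation R _ _
  -- the local map at a point
  have hloc : ∀ (q' : Ideal Q) [q'.IsPrime],
      let L := Localization.AtPrime ((q'.comap (algebraMap S Q)).comap (algebraMap S₀ S))
      ((∀ a ∈ RingHom.ker (algebraMap S₀ S), algebraMap S₀ L a = 0) ∨ Module.Flat S₀ (Localization.AtPrime q')) →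
      (Module.Flat S₀ (Localization.AtPrime q') ↔ Module.Flat S (Localization.AtPrime q')) ∧
        (Module.Flat R L ↔ Module.Flat R (Localization.AtPrime (q'.comap (algebraMap S Q)))) := by
    intro q' _ L hyp
    let y' := q'.comap (algebraMap S Q)
    let S'' := Localization.AtPrime y'
    let Q'' := Localization.AtPrime q'
    letI : Algebra L S'' := (Localization.localRingHom _ y' (algebraMap S₀ S) rfl).toAlgebra
    letI : Algebra S'' Q'' := (Localization.localRingHom y' q' (algebraMap S Q) rfl).toAlgebra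
    letI : Algebra L Q'' := ((algebraMap S'' Q'').comp (algebraMap L S'')).toAlgebra
    haveI : IsScalarTower L S'' Q'' := IsScalarTower.of_algebraMap_eq fun _ => rfl
    haveI : IsScalarTower S₀ L S'' := IsScalarTower.of_algebraMap_eq fun a => by
      rw [IsScalarTower.algebraMap_apply S₀ S S'']
      exact (Localization.localRingHom_to_map _ _ _ rfl a).symm
    haveI : IsScalarTower S S'' Q'' := IsScalarTower.of_algebraMap_eq fun a => by
      rw [IsScalarTower.algebraMap_apply S Q Q'']
      exact (Localization.localRingHom_to_map _ _ _ rfl a).symm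
    haveI : IsScalarTower S₀ L Q'' := IsScalarTower.of_algebraMap_eq fun a => by
      rw [IsScalarTower.algebraMap_apply L S'' Q'', ← IsScalarTower.algebraMap_apply S₀ L S'',
        IsScalarTower.algebraMap_apply S₀ S S'', ← IsScalarTower.algebraMap_apply S S'' Q'',
        ← IsScalarTower.algebraMap_apply S₀ S Q'']
    haveI : IsScalarTower R L S'' := IsScalarTower.of_algebraMap_eq fun a => by
      rw [IsScalarTower.algebraMap_apply R S₀ L, ← IsScalarTower.algebraMap_apply S₀ L S'',
        IsScalarTower.algebraMap_apply S₀ S S'', ← IsScalarTower.algebraMap_apply R S₀ S,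
        ← IsScalarTower.algebraMap_apply R S S'']
    haveI hl1 : IsLocalHom (algebraMap L S'') := Localization.isLocalHom_localRingHom _ _ _ rfl
    haveI hl2 : IsLocalHom (algebraMap S'' Q'') := Localization.isLocalHom_localRingHom _ _ _ rfl
    haveI : IsLocalHom (algebraMap L Q'') := RingHom.isLocalHom_comp (algebraMap S'' Q'') (algebraMap L S'')
    have hs : Function.Surjective (algebraMap L S'') := fun x => by
      obtain ⟨⟨a, s⟩, has⟩ := IsLocalization.surj y'.primeCompl x
      obtain ⟨a, rfl⟩ := hsurj a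
      obtain ⟨t, ht⟩ := hsurj (s : S)
      have htu : IsUnit (algebraMap S₀ L t) :=
        IsLocalization.map_units L (⟨t, fun h => s.2 (ht ▸ h)⟩ : (y'.comap (algebraMap S₀ S)).primeCompl)
      refine ⟨algebraMap S₀ L a * ↑htu.unit⁻¹, (IsLocalization.map_units S'' s).mul_left_inj.1 ?_⟩
      change _ * algebraMap S S'' s = x * algebraMap S S'' s
      rw [has, ← IsScalarTower.algebraMap_apply S₀ S S'', ← ht, ← IsScalarTower.algebraMap_apply S₀ S S'',
        IsScalarTower.algebraMap_apply S₀ L S'' t, ← map_mul, mul_assoc, IsUnit.val_inv_mul, mul_one,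
        ← IsScalarTower.algebraMap_apply]
    have hi : Function.Injective (algebraMap L S'') := by
      rcases hyp with hyp | hyp
      · refine (injective_iff_map_eq_zero _).2 fun x hx => ?_
        obtain ⟨⟨a, s⟩, has⟩ := IsLocalization.surj (y'.comap (algebraMap S₀ S)).primeCompl x
        have h0 : algebraMap S S'' (algebraMap S₀ S a) = 0 := by
          rw [← IsScalarTower.algebraMap_apply, IsScalarTower.algebraMap_apply S₀ L S'', ← has, map_mul, hx,
            zero_mul]
        obtain ⟨c, hc⟩ := (IsLocalization.map_eq_zero_iff y'.primeCompl S'' _).1 h0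
        obtain ⟨c₀, hc₀⟩ := hsurj (c : S)
        have := hyp (c₀ * a) (by rw [RingHom.mem_ker, map_mul, hc₀, hc])
        rw [map_mul, ← has] at this
        have hcu : IsUnit (algebraMap S₀ L c₀) := IsLocalization.map_units L
          (⟨c₀, fun h => c.2 (hc₀ ▸ h)⟩ : (y'.comap (algebraMap S₀ S)).primeCompl)
        rwa [hcu.mul_right_eq_zero, (IsLocalization.map_units L s).mul_left_eq_zero] at this
      · haveI : Module.Flat L Q'' :=
          (Module.flat_iff_of_isLocalization L (y'.comap (algebraMap S₀ S)).primeCompl Q'').2 hyp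
        exact injective_of_flat (B := Q'') (M := Q'')
    haveI : Algebra.IsEpi L S'' := Algebra.isEpi_of_surjective_algebraMap L S'' hs
    let eL := LinearEquiv.ofBijective (Algebra.linearMap L S'') ⟨hi, hs⟩
    haveI : Module.Flat L S'' := Module.Flat.of_linearEquiv eL.symm
    refine ⟨?_, fun h => Module.Flat.of_linearEquiv (eL.restrictScalars R).symm,
      fun h => Module.Flat.of_linearEquiv (eL.restrictScalars R)⟩
    rw [← Module.flat_iff_of_isLocalization L (y'.comap (algebraMap S₀ S)).primeCompl Q'',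
      ← Module.flat_iff_of_isLocalization S'' y'.primeCompl Q'']
    exact ⟨fun h => flat_of_isEpi (S := L), fun h => Module.Flat.trans L S'' Q''⟩
  have hflQ : ∀ (A : Type u) [CommRing A] [Algebra A Q] (q' : PrimeSpectrum Q),
      Module.Flat A (LocalizedModule q'.asIdeal.primeCompl Q) ↔ Module.Flat A (Localization.AtPrime q'.asIdeal) := by
    intro A _ _ q'
    let e := (IsLocalizedModule.iso q'.asIdeal.primeCompl
      (Algebra.linearMap Q (Localization.AtPrime q'.asIdeal))).restrictScalars A
    exact ⟨fun _ => Module.Flat.of_linearEquiv e.symm, fun _ => Module.Flat.of_linearEquiv e⟩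
  have hflS : ∀ (y' : PrimeSpectrum S₀),
      Module.Flat R (LocalizedModule y'.asIdeal.primeCompl S₀) ↔ Module.Flat R (Localization.AtPrime y'.asIdeal) := by
    intro y'
    let e := (IsLocalizedModule.iso y'.asIdeal.primeCompl
      (Algebra.linearMap S₀ (Localization.AtPrime y'.asIdeal))).restrictScalars R
    exact ⟨fun _ => Module.Flat.of_linearEquiv e.symm, fun _ => Module.Flat.of_linearEquiv e⟩
  refine ⟨{q' | Module.Flat S₀ (LocalizedModule q'.asIdeal.primeCompl Q)} ∩
    PrimeSpectrum.comap (algebraMap S₀ Q) ⁻¹' {y' | Module.Flat R (LocalizedModule y'.asIdeal.primeCompl S₀)},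
    ?_, isOpen_flatLocus.inter (isOpen_flatLocus.preimage (PrimeSpectrum.continuous_comap _)), ?_⟩
  · rintro q' ⟨h1, h2⟩
    have h1' := (hflQ S₀ q').1 h1
    obtain ⟨e1, e2⟩ := hloc q'.asIdeal (Or.inr h1')
    exact ⟨e2.1 ((hflS _).1 h2), e1.1 h1'⟩
  · obtain ⟨e1, e2⟩ := hloc q.asIdeal (Or.inl hker)
    exact ⟨(hflQ S₀ q).2 (e1.2 hS), (hflS _).2 (e2.2 hR)⟩

end Groth.Agent.FibCrit
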