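import Mathlib

/-!
Local rings of fibres.
-/

universe u

set_option linter.style.haveILetI false

open CategoryTheory CategoryTheory.Limits AlgebraicGeometry IsLocalRing TopCat

namespace Groth.Agent.FibCrit

/-- Transport along an equality of points. -/
theorem mem_map_of_congr {X S : Scheme.{u}} (f : X ⟶ S) {x x' : X} (h : x' = x) (hi : Inseparable x' x)
    (c : X.presheaf.stalk x')
    (hc : (X.presheaf.stalkCongr hi).hom c ∈
      (maximalIdeal (S.presheaf.stalk (f x))).map (f.stalkMap x).hom) :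
    c ∈ (maximalIdeal (S.presheaf.stalk (f x'))).map (f.stalkMap x').hom := by
  subst h
  simpa [TopCat.Presheaf.stalkCongr_hom, TopCat.Presheaf.stalkSpecializes_refl] using hc

/-- The local ring of a fibre: its kernel. -/
theorem mem_map_of_fiberι_stalkMap_eq_zero {X S : Scheme.{u}} (f : X ⟶ S) (s : S) (y : ↥(f.fiber s)) :
    ∀ c, (f.fiberι s).stalkMap y c = 0 →
      c ∈ (maximalIdeal (S.presheaf.stalk (f (f.fiberι s y)))).map (f.stalkMap (f.fiberι s y)).hom := by
  suffices H : ∀ (x : X) (_ : f x = s) (y : ↥(f.fiber s)) (_ : f.fiberι s y = x), ∀ c,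
      (f.fiberι s).stalkMap y c = 0 →
        c ∈ (maximalIdeal (S.presheaf.stalk (f (f.fiberι s y)))).map (f.stalkMap (f.fiberι s y)).hom by
    refine H (f.fiberι s y) ?_ y rfl
    have : f.fiberι s y ∈ Set.range (f.fiberι s) := ⟨y, rfl⟩
    rwa [f.range_fiberι] at this
  intro x hs y hy
  subst hs
  let A := X.presheaf.stalk x
  let 𝔪 := (maximalIdeal (S.presheaf.stalk (f x))).map (f.stalkMap x).hom
  have hle : 𝔪 ≤ maximalIdeal A := by
    rw [Ideal.map_le_iff_le_comap]
    exact fun a ha => map_nonunit (f.stalkMap x).hom a ha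
  haveI : Nontrivial (A ⧸ 𝔪) := Ideal.Quotient.nontrivial_iff.2 fun e =>
    (maximalIdeal.isMaximal A).ne_top (top_le_iff.1 (e ▸ hle))
  haveI : IsLocalRing (A ⧸ 𝔪) := IsLocalRing.of_surjective' _ Ideal.Quotient.mk_surjective
  let Q : CommRingCat.{u} := CommRingCat.of (A ⧸ 𝔪)
  haveI : IsLocalRing Q := ‹IsLocalRing (A ⧸ 𝔪)›
  let q : A ⟶ Q := CommRingCat.ofHom (Ideal.Quotient.mk 𝔪)
  haveI hq : IsLocalHom q.hom := IsLocalHom.of_surjective _ Ideal.Quotient.mk_surjective
  let ψ : S.residueField (f x) ⟶ Q := CommRingCat.ofHom (Ideal.quotientMap 𝔪 (f.stalkMap x).hom Ideal.le_comap_map)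
  have hψ : S.residue (f x) ≫ ψ = f.stalkMap x ≫ q := rfl
  let a : Spec Q ⟶ X := Spec.map q ≫ X.fromSpecStalk x
  have ha : a ≫ f = Spec.map ψ ≫ S.fromSpecResidueField (f x) := by
    rw [Category.assoc, ← Scheme.SpecMap_stalkMap_fromSpecStalk, ← Spec.map_comp_assoc, ← hψ, Spec.map_comp_assoc]
    rfl
  let L : Spec Q ⟶ f.fiber (f x) := pullback.lift a (Spec.map ψ) ha
  have hL : L ≫ f.fiberι (f x) = a := pullback.lift_fst _ _ _
  have hacp : a (closedPoint Q) = x := by
    rw [Scheme.Hom.comp_apply, Spec_closedPoint, Scheme.fromSpecStalk_closedPoint]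
  have hz : L (closedPoint Q) = y := by
    refine (f.fiberι (f x)).isEmbedding.injective ?_
    rw [hy, ← Scheme.Hom.comp_apply, hL, hacp]
  subst hz
  intro c hc
  have h1 : Scheme.stalkClosedPointTo (L ≫ f.fiberι (f x)) c = 0 := by
    rw [Scheme.stalkClosedPointTo_comp]
    change Scheme.stalkClosedPointTo L ((f.fiberι (f x)).stalkMap _ c) = 0
    rw [hc, map_zero]
  have h2 : ∀ (g : Spec Q ⟶ X) (_ : g = a) (hg : g (closedPoint Q) = x),
      Scheme.stalkClosedPointTo g = (X.presheaf.stalkCongr (.of_eq hg)).hom ≫ q := by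
    rintro _ rfl hg
    refine TopCat.Presheaf.stalk_hom_ext _ fun U hU => ?_
    rw [Scheme.germ_stalkClosedPointTo_Spec_fromSpecStalk, TopCat.Presheaf.stalkCongr_hom,
      TopCat.Presheaf.germ_stalkSpecializes_assoc]
  have hg : (L ≫ f.fiberι (f x)) (closedPoint Q) = x := by rw [hL, hacp]
  rw [h2 _ hL hg] at h1
  exact mem_map_of_congr f hg (.of_eq hg) c (Ideal.Quotient.eq_zero_iff_mem.1 h1)

/-- The local ring of a fibre is the quotient of the local ring. -/
theorem fiberι_stalkMap {X S : Scheme.{u}} (f : X ⟶ S) (s : S) (y : ↥(f.fiber s)) :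
    Function.Surjective ((f.fiberι s).stalkMap y).hom ∧
      RingHom.ker ((f.fiberι s).stalkMap y).hom =
        (maximalIdeal (S.presheaf.stalk (f (f.fiberι s y)))).map (f.stalkMap (f.fiberι s y)).hom := by
  refine ⟨(f.fiberι s).stalkMap_surjective y, le_antisymm (fun c hc =>
    mem_map_of_fiberι_stalkMap_eq_zero f s y c hc) ?_⟩
  rw [Ideal.map_le_iff_le_comap]
  intro m hm
  rw [Ideal.mem_comap, RingHom.mem_ker]
  change (f.stalkMap _ ≫ (f.fiberι s).stalkMap y) m = 0
  rw [← Scheme.Hom.stalkMap_comp]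
  suffices H : ∀ (g : f.fiber s ⟶ S) (_ : g = f.fiberToSpecResidueField s ≫ S.fromSpecResidueField s)
      (m : S.presheaf.stalk (g y)), m ∈ maximalIdeal _ → g.stalkMap y m = 0 from H _ (f.fiber_fac s) m hm
  rintro _ rfl m hm
  rw [Scheme.Hom.stalkMap_comp]
  change (f.fiberToSpecResidueField s).stalkMap y ((S.fromSpecResidueField s).stalkMap _ m) = 0
  refine (congrArg _ ?_).trans (map_zero _)
  haveI : IsReduced (Spec (S.residueField s)) := inferInstance
  by_contra h0
  have hfield : ∀ (p : ↥(Spec (S.residueField s))) (v : (Spec (S.residueField s)).presheaf.stalk p),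
      v ≠ 0 → IsUnit v := by
    intro p v hv
    obtain rfl : p = closedPoint (S.residueField s) := Subsingleton.elim (α := PrimeSpectrum _) _ _
    let e := (stalkClosedPointIso (S.residueField s)).commRingCatIsoToRingEquiv
    have := (Ne.isUnit (show e v ≠ 0 from fun h => hv (e.injective (h.trans (map_zero e).symm)))).map e.symm
    rwa [e.symm_apply_apply] at this
  haveI hloc : ∀ z, IsLocalHom ((S.fromSpecResidueField s).stalkMap z).hom := inferInstance
  exact hm (@isUnit_of_map_unit _ _ _ _ _ _ ((S.fromSpecResidueField s).stalkMap _).hom (hloc _) m (hfield _ _ h0))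

end Groth.Agent.FibCrit
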