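import Mathlib
import Groth.Prelude.Def_MoreMor
import Groth.Agent.FibCrit.FT
import Groth.Agent.FibCrit.Stalk

/-!
The fibrewise criterion of flatness for schemes.
-/

universe u

set_option linter.style.haveILetI false

open CategoryTheory CategoryTheory.Limits AlgebraicGeometry IsLocalRing TopCat TensorProduct

namespace Groth.Agent.FibCrit

/-- A map induced on quotients along surjections is flat iff the quotient map is. -/
theorem flat_iff_quotientMap {A B A' B' : Type u} [CommRing A] [CommRing B] [CommRing A'] [CommRing B']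
    (φ : A →+* B) (φ' : A' →+* B') (a : A →+* A') (b : B →+* B') (ha : Function.Surjective a)
    (hb : Function.Surjective b) (hc : φ'.comp a = b.comp φ) (J : Ideal B) (hJ : RingHom.ker b = J)
    (I : Ideal A) (hI : RingHom.ker a = I) (hIJ : I ≤ J.comap φ) :
    φ'.Flat ↔ (Ideal.quotientMap J φ hIJ).Flat := by
  subst hI hJ
  let eA := RingHom.quotientKerEquivOfSurjective ha
  let eB := RingHom.quotientKerEquivOfSurjective hb
  have h : φ'.comp eA.toRingHom = eB.toRingHom.comp (Ideal.quotientMap (RingHom.ker b) φ hIJ) := by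
    refine Ideal.Quotient.ringHom_ext (RingHom.ext fun x => ?_)
    exact RingHom.congr_fun hc x
  constructor
  · intro hf
    have h1 : (φ'.comp eA.toRingHom).Flat := RingHom.Flat.comp (RingHom.Flat.of_bijective eA.bijective) hf
    rw [h] at h1
    have h2 := RingHom.Flat.comp h1 (RingHom.Flat.of_bijective eB.symm.bijective (f := eB.symm.toRingHom))
    convert h2 using 1
    ext x
    simp
  · intro hf
    have h1 := RingHom.Flat.comp hf (RingHom.Flat.of_bijective eB.bijective (f := eB.toRingHom))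
    rw [← h] at h1
    have h2 := RingHom.Flat.comp (RingHom.Flat.of_bijective eA.symm.bijective (f := eA.symm.toRingHom)) h1
    convert h2 using 1
    ext x
    simp

/-- The fibre over `𝔪_s` of the map of local rings at a point. -/
def FibFlat {X Y S : Scheme.{u}} (f : X ⟶ Y) (g : Y ⟶ S) (x : X) : Prop :=
  (Ideal.quotientMap (((maximalIdeal (S.presheaf.stalk (g (f x)))).map (g.stalkMap (f x)).hom).map (f.stalkMap x).hom)
    (f.stalkMap x).hom Ideal.le_comap_map).Flat

theorem ker_stalkCongr_comp {X S : Scheme.{u}} (f : X ⟶ S) (s : S) (y : ↥(f.fiber s)) (y₁ : X)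
    (h : f.fiberι s y = y₁) :
    RingHom.ker ((f.fiberι s).stalkMap y).hom = (maximalIdeal (S.presheaf.stalk (f (f.fiberι s y)))).map
      (f.stalkMap (f.fiberι s y)).hom ∧
    RingHom.ker ((X.presheaf.stalkCongr (.of_eq h)).inv ≫ (f.fiberι s).stalkMap y).hom =
      (maximalIdeal (S.presheaf.stalk (f y₁))).map (f.stalkMap y₁).hom ∧
    Function.Surjective ((X.presheaf.stalkCongr (.of_eq h)).inv ≫ (f.fiberι s).stalkMap y).hom := by
  subst h
  obtain ⟨h1, h2⟩ := fiberι_stalkMap f s y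
  refine ⟨h2, ?_, ?_⟩
  · convert h2 using 2
    simp [TopCat.Presheaf.stalkCongr_inv, TopCat.Presheaf.stalkSpecializes_refl]
  · simpa [TopCat.Presheaf.stalkCongr_inv, TopCat.Presheaf.stalkSpecializes_refl] using h1

theorem fiberMap_fiberι {X Y S : Scheme.{u}} (f : X ⟶ Y) (g : Y ⟶ S) (s : S) :
    MoreMor.fiberMap f g s ≫ g.fiberι s = (f ≫ g).fiberι s ≫ f :=
  pullback.lift_fst _ _ _

/-- Flatness of the map of fibres, in terms of local rings. -/
theorem fiberMap_flat_iff {X Y S : Scheme.{u}} (f : X ⟶ Y) (g : Y ⟶ S) (s : S) (z : ↥((f ≫ g).fiber s)) :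
    ((MoreMor.fiberMap f g s).stalkMap z).hom.Flat ↔ FibFlat f g ((f ≫ g).fiberι s z) := by
  let x := (f ≫ g).fiberι s z
  let w := MoreMor.fiberMap f g s z
  have hw : g.fiberι s w = f x := by
    change (MoreMor.fiberMap f g s ≫ g.fiberι s) z = ((f ≫ g).fiberι s ≫ f) z
    rw [fiberMap_fiberι]
  obtain ⟨-, hkA, hsA⟩ := ker_stalkCongr_comp g s w (f x) hw
  obtain ⟨hsB, hkB⟩ := fiberι_stalkMap (f ≫ g) s z
  have hmap : (maximalIdeal (S.presheaf.stalk ((f ≫ g) x))).map ((f ≫ g).stalkMap x).hom =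
      ((maximalIdeal (S.presheaf.stalk (g (f x)))).map (g.stalkMap (f x)).hom).map (f.stalkMap x).hom := by
    rw [Ideal.map_map, ← CommRingCat.hom_comp, ← Scheme.Hom.stalkMap_comp]
    rfl
  have hsq : (Y.presheaf.stalkCongr (.of_eq hw)).inv ≫ (g.fiberι s).stalkMap w ≫ (MoreMor.fiberMap f g s).stalkMap z =
      f.stalkMap x ≫ ((f ≫ g).fiberι s).stalkMap z := by
    rw [← Scheme.Hom.stalkMap_comp, ← Scheme.Hom.stalkMap_comp,
      Scheme.Hom.stalkMap_congr_hom _ _ (fiberMap_fiberι f g s) z]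
    simp [TopCat.Presheaf.stalkCongr_inv, TopCat.Presheaf.stalkCongr_hom]
    exact Category.id_comp _
  refine flat_iff_quotientMap (f.stalkMap x).hom _ ((Y.presheaf.stalkCongr (.of_eq hw)).inv ≫ (g.fiberι s).stalkMap w).hom
    (((f ≫ g).fiberι s).stalkMap z).hom hsA hsB ?_ _ (hkB.trans hmap) _ hkA _
  rw [← CommRingCat.hom_comp, ← CommRingCat.hom_comp, Category.assoc, hsq]

theorem germ_comm {X Y : Scheme.{u}} (f : X ⟶ Y) (U : Y.Opens) (V : X.Opens) (hVU : V ≤ f ⁻¹ᵁ U) (x : X) (hx : x ∈ V)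
    (a : Γ(Y, U)) :
    (f.stalkMap x).hom (Y.presheaf.germ U (f x) (hVU hx) a) = X.presheaf.germ V x hx ((f.appLE U V hVU).hom a) := by
  change (Y.presheaf.germ U (f x) (hVU hx) ≫ f.stalkMap x) a = (f.appLE U V hVU ≫ X.presheaf.germ V x hx) a
  rw [Scheme.Hom.germ_stalkMap, Scheme.Hom.appLE, Category.assoc, X.presheaf.germ_res]

/-- The chart version of the criterion. -/
theorem chart {X Y S : Scheme.{u}} (f : X ⟶ Y) (g : Y ⟶ S) [LocallyOfFinitePresentation (f ≫ g)]
    [LocallyOfFiniteType g] (U : S.Opens) (hU : IsAffineOpen U) (V : Y.Opens) (hV : IsAffineOpen V)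
    (W : X.Opens) (hW : IsAffineOpen W) (hVU : V ≤ g ⁻¹ᵁ U) (hWV : W ≤ f ⁻¹ᵁ V) :
    (∀ x ∈ W, ((f ≫ g).stalkMap x).hom.Flat → FibFlat f g x → (g.stalkMap (f x)).hom.Flat ∧ (f.stalkMap x).hom.Flat) ∧
    IsOpen {x : ↥X | x ∈ W ∧ (g.stalkMap (f x)).hom.Flat ∧ (f.stalkMap x).hom.Flat} := by
  have hWU : W ≤ (f ≫ g) ⁻¹ᵁ U := fun x hx => hVU (hWV hx)
  letI : Algebra Γ(S, U) Γ(Y, V) := (g.appLE U V hVU).hom.toAlgebra
  letI : Algebra Γ(Y, V) Γ(X, W) := (f.appLE V W hWV).hom.toAlgebra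
  letI : Algebra Γ(S, U) Γ(X, W) := ((f ≫ g).appLE U W hWU).hom.toAlgebra
  haveI : IsScalarTower Γ(S, U) Γ(Y, V) Γ(X, W) := IsScalarTower.of_algebraMap_eq fun a => by
    change ((f ≫ g).appLE U W hWU).hom a = (f.appLE V W hWV).hom ((g.appLE U V hVU).hom a)
    rw [← CommRingCat.comp_apply, Scheme.Hom.appLE_comp_appLE]
  haveI : Algebra.FiniteType Γ(S, U) Γ(Y, V) := g.finiteType_appLE hU hV hVU
  haveI : Algebra.FinitePresentation Γ(S, U) Γ(X, W) := (f ≫ g).finitePresentation_appLE hU hW hWU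
  refine ⟨fun x hx h1 h2 => ?_, ?_⟩
  · let q := (hW.primeIdealOf ⟨x, hx⟩).asIdeal
    have hqS : q.comap (algebraMap Γ(Y, V) Γ(X, W)) = (hV.primeIdealOf ⟨f x, hWV hx⟩).asIdeal :=
      congrArg PrimeSpectrum.asIdeal (IsAffineOpen.comap_primeIdealOf_appLE V hV W hW hWV hx)
    have hqR : q.comap (algebraMap Γ(S, U) Γ(X, W)) = (hU.primeIdealOf ⟨g (f x), hWU hx⟩).asIdeal :=
      congrArg PrimeSpectrum.asIdeal (IsAffineOpen.comap_primeIdealOf_appLE U hU W hW hWU hx)
    letI := TopCat.Presheaf.algebra_section_stalk S.presheaf (⟨g (f x), hWU hx⟩ : U)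
    letI := TopCat.Presheaf.algebra_section_stalk Y.presheaf (⟨f x, hWV hx⟩ : V)
    letI := TopCat.Presheaf.algebra_section_stalk X.presheaf (⟨x, hx⟩ : W)
    haveI : IsLocalization.AtPrime (S.presheaf.stalk (g (f x))) (q.comap (algebraMap Γ(S, U) Γ(X, W))) := by
      simp only [hqR]; exact hU.isLocalization_stalk ⟨g (f x), hWU hx⟩
    haveI : IsLocalization.AtPrime (Y.presheaf.stalk (f x)) (q.comap (algebraMap Γ(Y, V) Γ(X, W))) := by
      simp only [hqS]; exact hV.isLocalization_stalk ⟨f x, hWV hx⟩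
    haveI : IsLocalization.AtPrime (X.presheaf.stalk x) q := hW.isLocalization_stalk ⟨x, hx⟩
    letI : Algebra (S.presheaf.stalk (g (f x))) (Y.presheaf.stalk (f x)) := (g.stalkMap (f x)).hom.toAlgebra
    letI : Algebra (Y.presheaf.stalk (f x)) (X.presheaf.stalk x) := (f.stalkMap x).hom.toAlgebra
    letI : Algebra (S.presheaf.stalk (g (f x))) (X.presheaf.stalk x) := ((f ≫ g).stalkMap x).hom.toAlgebra
    haveI : IsScalarTower (S.presheaf.stalk (g (f x))) (Y.presheaf.stalk (f x)) (X.presheaf.stalk x) :=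
      IsScalarTower.of_algebraMap_eq fun a => by
        change ((f ≫ g).stalkMap x).hom a = _
        rw [Scheme.Hom.stalkMap_comp]
        rfl
    letI : Algebra Γ(S, U) (Y.presheaf.stalk (f x)) :=
      ((algebraMap Γ(Y, V) (Y.presheaf.stalk (f x))).comp (algebraMap Γ(S, U) Γ(Y, V))).toAlgebra
    haveI : IsScalarTower Γ(S, U) Γ(Y, V) (Y.presheaf.stalk (f x)) := IsScalarTower.of_algebraMap_eq fun _ => rfl
    haveI : IsScalarTower Γ(S, U) (S.presheaf.stalk (g (f x))) (Y.presheaf.stalk (f x)) :=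
      IsScalarTower.of_algebraMap_eq fun a => (germ_comm g U V hVU (f x) (hWV hx) a).symm
    letI : Algebra Γ(Y, V) (X.presheaf.stalk x) :=
      ((algebraMap Γ(X, W) (X.presheaf.stalk x)).comp (algebraMap Γ(Y, V) Γ(X, W))).toAlgebra
    haveI : IsScalarTower Γ(Y, V) Γ(X, W) (X.presheaf.stalk x) := IsScalarTower.of_algebraMap_eq fun _ => rfl
    haveI : IsScalarTower Γ(Y, V) (Y.presheaf.stalk (f x)) (X.presheaf.stalk x) :=
      IsScalarTower.of_algebraMap_eq fun a => (germ_comm f V W hWV x hx a).symm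
    letI : Algebra Γ(S, U) (X.presheaf.stalk x) :=
      ((algebraMap Γ(X, W) (X.presheaf.stalk x)).comp (algebraMap Γ(S, U) Γ(X, W))).toAlgebra
    haveI : IsScalarTower Γ(S, U) Γ(X, W) (X.presheaf.stalk x) := IsScalarTower.of_algebraMap_eq fun _ => rfl
    haveI : IsScalarTower Γ(S, U) (S.presheaf.stalk (g (f x))) (X.presheaf.stalk x) :=
      IsScalarTower.of_algebraMap_eq fun a => (germ_comm (f ≫ g) U W hWU x hx a).symm
    let Q' := X.presheaf.stalk x
    let eX := AlgebraTensorModule.rid Γ(X, W) Q' Q'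
    haveI : Module.Flat (S.presheaf.stalk (g (f x))) Q' := h1
    haveI : Module.Flat Γ(S, U) (Q' ⊗[Γ(X, W)] Γ(X, W)) := by
      haveI : Module.Flat Γ(S, U) Q' :=
        (Module.flat_iff_of_isLocalization (S.presheaf.stalk (g (f x)))
          (q.comap (algebraMap Γ(S, U) Γ(X, W))).primeCompl Q').1 h1
      exact Module.Flat.of_linearEquiv (eX.restrictScalars Γ(S, U))
    let I := (maximalIdeal (S.presheaf.stalk (g (f x)))).map (g.stalkMap (f x)).hom
    haveI : Module.Flat (Y.presheaf.stalk (f x) ⧸ I) ((Y.presheaf.stalk (f x) ⧸ I) ⊗[Y.presheaf.stalk (f x)]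
        (Q' ⊗[Γ(X, W)] Γ(X, W))) := by
      letI : Algebra (Y.presheaf.stalk (f x) ⧸ I) (Q' ⧸ I.map (f.stalkMap x).hom) :=
        (Ideal.quotientMap _ (f.stalkMap x).hom Ideal.le_comap_map).toAlgebra
      haveI : Module.Flat (Y.presheaf.stalk (f x) ⧸ I) (Q' ⧸ I.map (f.stalkMap x).hom) := h2
      haveI : IsScalarTower (Y.presheaf.stalk (f x)) (Y.presheaf.stalk (f x) ⧸ I) (Q' ⧸ I.map (f.stalkMap x).hom) :=
        IsScalarTower.of_algebraMap_eq (R := Y.presheaf.stalk (f x)) (S := Y.presheaf.stalk (f x) ⧸ I)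
          (A := Q' ⧸ I.map (f.stalkMap x).hom) fun _ => rfl
      haveI := isPushout_quot (A := Y.presheaf.stalk (f x)) (B := Q') I (J := I.map (f.stalkMap x).hom) rfl
      haveI : Module.Flat (Y.presheaf.stalk (f x) ⧸ I) ((Y.presheaf.stalk (f x) ⧸ I) ⊗[Y.presheaf.stalk (f x)] Q') :=
        Module.Flat.of_linearEquiv (Algebra.IsPushout.equiv (Y.presheaf.stalk (f x)) (Y.presheaf.stalk (f x) ⧸ I) Q'
          (Q' ⧸ I.map (f.stalkMap x).hom)).toLinearEquiv
      exact Module.Flat.of_linearEquiv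
        (AlgebraTensorModule.congr (LinearEquiv.refl _ _) (eX.restrictScalars (Y.presheaf.stalk (f x))))
    obtain ⟨r1, r2, -⟩ := ft_fibre (R := Γ(S, U)) (S := Γ(Y, V)) (R' := S.presheaf.stalk (g (f x)))
      (S' := Y.presheaf.stalk (f x)) (Q' := Q') (M := Γ(X, W)) q inferInstance eX.toEquiv.nontrivial inferInstance
    exact ⟨r2, Module.Flat.of_linearEquiv (eX.restrictScalars (Y.presheaf.stalk (f x))).symm⟩
  · have key : ∀ x (hx : x ∈ W), ((g.stalkMap (f x)).hom.Flat ∧ (f.stalkMap x).hom.Flat) ↔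
        Module.Flat Γ(S, U) (Localization.AtPrime ((hW.primeIdealOf ⟨x, hx⟩).asIdeal.comap
          (algebraMap Γ(Y, V) Γ(X, W)))) ∧
        Module.Flat Γ(Y, V) (Localization.AtPrime (hW.primeIdealOf ⟨x, hx⟩).asIdeal) := by
      have stalk : ∀ {T Z : Scheme.{u}} (h : T ⟶ Z) (A : Z.Opens) (hA : IsAffineOpen A) (B : T.Opens)
          (hB : IsAffineOpen B) (hBA : B ≤ h ⁻¹ᵁ A) (t : T) (ht : t ∈ B) (P : Ideal Γ(T, B)) [P.IsPrime],
          P = (hB.primeIdealOf ⟨t, ht⟩).asIdeal →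
          letI := (h.appLE A B hBA).hom.toAlgebra
          ((h.stalkMap t).hom.Flat ↔ Module.Flat Γ(Z, A) (Localization.AtPrime P)) := by
        intro T Z h A hA B hB hBA t ht P _ hP
        subst hP
        letI := (h.appLE A B hBA).hom.toAlgebra
        letI := TopCat.Presheaf.algebra_section_stalk Z.presheaf (⟨h t, hBA ht⟩ : A)
        letI := TopCat.Presheaf.algebra_section_stalk T.presheaf (⟨t, ht⟩ : B)
        haveI : IsLocalization.AtPrime (Z.presheaf.stalk (h t)) (hA.primeIdealOf ⟨h t, hBA ht⟩).asIdeal :=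
          hA.isLocalization_stalk ⟨h t, hBA ht⟩
        haveI : IsLocalization.AtPrime (T.presheaf.stalk t) (hB.primeIdealOf ⟨t, ht⟩).asIdeal :=
          hB.isLocalization_stalk ⟨t, ht⟩
        letI : Algebra (Z.presheaf.stalk (h t)) (T.presheaf.stalk t) := (h.stalkMap t).hom.toAlgebra
        letI : Algebra Γ(Z, A) (T.presheaf.stalk t) :=
          ((algebraMap Γ(T, B) (T.presheaf.stalk t)).comp (algebraMap Γ(Z, A) Γ(T, B))).toAlgebra
        haveI : IsScalarTower Γ(Z, A) Γ(T, B) (T.presheaf.stalk t) := IsScalarTower.of_algebraMap_eq fun _ => rfl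
        haveI : IsScalarTower Γ(Z, A) (Z.presheaf.stalk (h t)) (T.presheaf.stalk t) :=
          IsScalarTower.of_algebraMap_eq fun a => (germ_comm h A B hBA t ht a).symm
        let e := ((IsLocalization.algEquiv (hB.primeIdealOf ⟨t, ht⟩).asIdeal.primeCompl (T.presheaf.stalk t)
          (Localization.AtPrime (hB.primeIdealOf ⟨t, ht⟩).asIdeal)).toLinearEquiv).restrictScalars Γ(Z, A)
        refine (Module.flat_iff_of_isLocalization (Z.presheaf.stalk (h t))
          (hA.primeIdealOf ⟨h t, hBA ht⟩).asIdeal.primeCompl (T.presheaf.stalk t)).trans ?_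
        exact ⟨fun _ => Module.Flat.of_linearEquiv e.symm, fun _ => Module.Flat.of_linearEquiv e⟩
      intro x hx
      exact and_congr (stalk g U hU V hV hVU (f x) (hWV hx) _
          (congrArg PrimeSpectrum.asIdeal (IsAffineOpen.comap_primeIdealOf_appLE V hV W hW hWV hx)))
        (stalk f V hV W hW hWV x hx _ rfl)
    have hopen := isOpen_locus (R := Γ(S, U)) (S := Γ(Y, V)) (Q := Γ(X, W))
    let T := {q : PrimeSpectrum Γ(X, W) | Module.Flat Γ(S, U) (Localization.AtPrime (q.asIdeal.comap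
      (algebraMap Γ(Y, V) Γ(X, W)))) ∧ Module.Flat Γ(Y, V) (Localization.AtPrime q.asIdeal)}
    have hcont : Continuous (hW.primeIdealOf : W → PrimeSpectrum Γ(X, W)) := hW.isoSpec.hom.continuous
    have heq : {x : ↥X | x ∈ W ∧ (g.stalkMap (f x)).hom.Flat ∧ (f.stalkMap x).hom.Flat} =
        Subtype.val '' ((hW.primeIdealOf : W → PrimeSpectrum Γ(X, W)) ⁻¹' T) := by
      ext x
      constructor
      · rintro ⟨hx, h⟩
        exact ⟨⟨x, hx⟩, (key x hx).1 h, rfl⟩
      · rintro ⟨⟨x, hx⟩, h, rfl⟩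
        exact ⟨hx, (key x hx).2 h⟩
    rw [heq]
    exact W.2.isOpenMap_subtype_val _ (hcont.isOpen_preimage _ hopen)

/-- **Fibrewise criterion of flatness** at a point. -/
theorem pointwise {X Y S : Scheme.{u}} (f : X ⟶ Y) (g : Y ⟶ S) [LocallyOfFinitePresentation (f ≫ g)]
    [LocallyOfFiniteType g] (x : X) :
    ((f ≫ g).stalkMap x).hom.Flat ∧ FibFlat f g x ↔ (g.stalkMap (f x)).hom.Flat ∧ (f.stalkMap x).hom.Flat := by
  constructor
  · rintro ⟨h1, h2⟩
    obtain ⟨U, hU, hsU, -⟩ := exists_isAffineOpen_mem_and_subset (X := S) (x := g (f x)) (U := ⊤) trivial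
    obtain ⟨V, hV, hyV, hVU⟩ := exists_isAffineOpen_mem_and_subset (X := Y) (x := f x) (U := g ⁻¹ᵁ U) hsU
    obtain ⟨W, hW, hxW, hWV⟩ := exists_isAffineOpen_mem_and_subset (X := X) (x := x) (U := f ⁻¹ᵁ V) hyV
    exact (chart f g U hU V hV W hW hVU hWV).1 x hxW h1 h2
  · rintro ⟨h1, h2⟩
    refine ⟨?_, ?_⟩
    · rw [Scheme.Hom.stalkMap_comp]
      exact RingHom.Flat.comp h1 h2
    · let A := Y.presheaf.stalk (f x)
      let B := X.presheaf.stalk x
      let I := (maximalIdeal (S.presheaf.stalk (g (f x)))).map (g.stalkMap (f x)).hom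
      letI : Algebra A B := (f.stalkMap x).hom.toAlgebra
      haveI : Module.Flat A B := h2
      let J : Ideal B := I.map (f.stalkMap x).hom
      letI : Algebra (A ⧸ I) (B ⧸ J) := (Ideal.quotientMap _ (f.stalkMap x).hom Ideal.le_comap_map).toAlgebra
      haveI : IsScalarTower A (A ⧸ I) (B ⧸ J) :=
        IsScalarTower.of_algebraMap_eq (R := A) (S := A ⧸ I) (A := B ⧸ J) fun _ => rfl
      haveI := isPushout_quot (A := A) (B := B) I (J := J) rfl
      exact Module.Flat.of_linearEquiv (Algebra.IsPushout.equiv A (A ⧸ I) B (B ⧸ J)).symm.toLinearEquiv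

/-- **Openness** of the locus of the fibrewise criterion. -/
theorem isOpen {X Y S : Scheme.{u}} (f : X ⟶ Y) (g : Y ⟶ S) [LocallyOfFinitePresentation (f ≫ g)]
    [LocallyOfFiniteType g] :
    IsOpen {x : ↥X | (g.stalkMap (f x)).hom.Flat ∧ (f.stalkMap x).hom.Flat} := by
  refine isOpen_iff_forall_mem_open.2 fun x hx => ?_
  obtain ⟨U, hU, hsU, -⟩ := exists_isAffineOpen_mem_and_subset (X := S) (x := g (f x)) (U := ⊤) trivial
  obtain ⟨V, hV, hyV, hVU⟩ := exists_isAffineOpen_mem_and_subset (X := Y) (x := f x) (U := g ⁻¹ᵁ U) hsU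
  obtain ⟨W, hW, hxW, hWV⟩ := exists_isAffineOpen_mem_and_subset (X := X) (x := x) (U := f ⁻¹ᵁ V) hyV
  exact ⟨_, fun z hz => hz.2, (chart f g U hU V hV W hW hVU hWV).2, hxW, hx⟩

end Groth.Agent.FibCrit
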