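import Mathlib
import Groth.Agent.FibCrit.Scheme
import Groth.Agent.LimDesc.FPCancel
import Groth.Agent.S3694

/-!
Properties of a morphism over a base detected on the fibres.
-/

universe u

set_option linter.style.haveILetI false

open CategoryTheory CategoryTheory.Limits AlgebraicGeometry IsLocalRing TensorProduct

namespace Groth.Agent.FibCrit

/-- A finite type algebra with formally unramified fibres is formally unramified. -/
theorem formallyUnramified_of_fibre {A B : Type u} [CommRing A] [CommRing B] [Algebra A B] [Algebra.FiniteType A B]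
    (h : ∀ (p : Ideal A) [p.IsPrime], Algebra.FormallyUnramified p.ResidueField (p.Fiber B)) :
    Algebra.FormallyUnramified A B := by
  refine ⟨?_⟩
  rw [← Module.support_eq_empty_iff (R := B)]
  refine Set.eq_empty_iff_forall_notMem.2 fun q hq => ?_
  rw [Module.mem_support_iff_nontrivial_residueField_tensorProduct] at hq
  let p := q.asIdeal.under A
  let F := p.ResidueField ⊗[A] B
  haveI hF : Algebra.FormallyUnramified p.ResidueField F := h p
  letI : Algebra B F := Algebra.TensorProduct.rightAlgebra
  haveI : Algebra.IsPushout A p.ResidueField B F := inferInstance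
  haveI hs : Subsingleton (F ⊗[B] Ω[B⁄A]) :=
    (KaehlerDifferential.tensorKaehlerEquiv A p.ResidueField B F).toEquiv.subsingleton
  let κm : p.ResidueField →ₐ[A] q.asIdeal.ResidueField :=
    Ideal.ResidueField.mapₐ p q.asIdeal (Algebra.ofId A B) rfl
  let ev : F →ₐ[A] q.asIdeal.ResidueField := Algebra.TensorProduct.lift κm
    (IsScalarTower.toAlgHom A B q.asIdeal.ResidueField) fun _ _ => Commute.all _ _
  letI : Algebra F q.asIdeal.ResidueField := ev.toRingHom.toAlgebra
  haveI : IsScalarTower B F q.asIdeal.ResidueField := IsScalarTower.of_algebraMap_eq fun b => by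
    change _ = ev ((1 : p.ResidueField) ⊗ₜ[A] b)
    simp only [ev]
    rw [Algebra.TensorProduct.lift_tmul, map_one, one_mul]
    rfl
  exact not_nontrivial (q.asIdeal.ResidueField ⊗[F] (F ⊗[B] Ω[B⁄A]))
    (AlgebraTensorModule.cancelBaseChange B F q.asIdeal.ResidueField q.asIdeal.ResidueField Ω[B⁄A]).toEquiv.nontrivial

/-- A morphism locally of finite type with formally unramified fibres is formally unramified. -/
theorem formallyUnramified_of_fiberToSpecResidueField {X Y : Scheme.{u}} (f : X ⟶ Y) [LocallyOfFiniteType f]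
    (h : ∀ y, FormallyUnramified (f.fiberToSpecResidueField y)) : FormallyUnramified f := by
  wlog hR : ∃ R, Y = Spec R
  · rw [IsZariskiLocalAtTarget.iff_of_openCover (P := @FormallyUnramified) Y.affineCover]
    intro i
    dsimp [Scheme.Cover.pullbackHom]
    haveI hlft : LocallyOfFiniteType (pullback.snd f (Y.affineCover.f i)) :=
      MorphismProperty.pullback_snd _ _ inferInstance
    refine @this _ _ _ hlft (fun y ↦ ?_) ⟨_, rfl⟩
    exact MorphismProperty.of_isPullback
      (isPullback_fiberToSpecResidueField_of_isPullback (IsPullback.of_hasPullback _ _) _) (h _)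
  obtain ⟨R, rfl⟩ := hR
  wlog hS : ∃ S, X = Spec S generalizing f X
  · rw [IsZariskiLocalAtSource.iff_of_openCover (P := @FormallyUnramified) X.affineCover]
    intro i
    have _ (y) : FormallyUnramified (pullback.snd f ((Spec R).fromSpecResidueField y)) :=
      inferInstanceAs <| FormallyUnramified (f.fiberToSpecResidueField y)
    refine this _ (fun y ↦ ?_) ⟨_, rfl⟩
    rw [Scheme.Hom.fiberToSpecResidueField, ← pullbackRightPullbackFstIso_inv_snd_snd]
    exact MorphismProperty.comp_mem _ _ _ inferInstance (MorphismProperty.comp_mem _ _ _ inferInstance inferInstance)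
  obtain ⟨S, rfl⟩ := hS
  obtain ⟨φ, rfl⟩ := Spec.map_surjective f
  simp only [HasRingHomProperty.Spec_iff] at *
  algebraize [φ.hom]
  change Algebra.FormallyUnramified R S
  refine formallyUnramified_of_fibre fun p hp ↦ ?_
  rw [← RingHom.formallyUnramified_algebraMap]
  rw [← CommRingCat.hom_ofHom (algebraMap p.ResidueField (p.Fiber ↑S)),
    ← HasRingHomProperty.Spec_iff (P := @FormallyUnramified),
    ← MorphismProperty.arrow_mk_iso_iff (P := @FormallyUnramified)
    (Spec.fiberToSpecResidueFieldIso R S ⟨p, hp⟩)]
  exact h ⟨p, hp⟩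

variable {X Y S : Scheme.{u}} {g : Y ⟶ S} {h : X ⟶ S} {f : X ⟶ Y}

/-- The square of fibres is cartesian. -/
theorem isPullback_fiberMap (f : X ⟶ Y) (g : Y ⟶ S) (s : S) :
    IsPullback ((f ≫ g).fiberι s) (MoreMor.fiberMap f g s) f (g.fiberι s) := by
  refine IsPullback.of_bot ?_ (fiberMap_fiberι f g s).symm (IsPullback.of_hasPullback g (S.fromSpecResidueField s))
  have e : MoreMor.fiberMap f g s ≫ pullback.snd g (S.fromSpecResidueField s) = (f ≫ g).fiberToSpecResidueField s :=
    pullback.lift_snd _ _ _
  rw [e]
  exact IsPullback.of_hasPullback (f ≫ g) (S.fromSpecResidueField s)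

/-- A property stable under base change of the fibre maps passes to the fibres over points. -/
theorem fiber_of_fibre (P : MorphismProperty Scheme.{u}) [P.IsStableUnderBaseChange]
    (hf : ∀ s : S, P (pullback.snd f (g.fiberι s))) (y : Y) : P (f.fiberToSpecResidueField y) := by
  have hbc : pullback.fst (pullback.snd f (g.fiberι (g y))) (g.asFiberHom y) ≫ pullback.fst f (g.fiberι (g y)) ≫ f =
      pullback.snd (pullback.snd f (g.fiberι (g y))) (g.asFiberHom y) ≫ Y.fromSpecResidueField y := by
    rw [pullback.condition, ← Category.assoc, pullback.condition, Category.assoc, Scheme.Hom.asFiberHom_fiberι]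
  have hP := (IsPullback.of_hasPullback (pullback.snd f (g.fiberι (g y))) (g.asFiberHom y)).paste_horiz
    (IsPullback.of_hasPullback f (g.fiberι (g y)))
  rw [Scheme.Hom.asFiberHom_fiberι] at hP
  have hQ := IsPullback.of_hasPullback f (Y.fromSpecResidueField y)
  rw [show f.fiberToSpecResidueField y = (hQ.isoIsPullback _ _ hP).hom ≫
    pullback.snd (pullback.snd f (g.fiberι (g y))) (g.asFiberHom y) from
      (IsPullback.isoIsPullback_hom_snd X (Spec (Y.residueField y)) hQ hP).symm]
  exact (MorphismProperty.cancel_left_of_respectsIso P _ _).2 (MorphismProperty.pullback_snd _ _ (hf (g y)))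

variable [LocallyOfFinitePresentation g] [LocallyOfFinitePresentation h] [Flat h]

/-- Flatness from flatness on fibres. -/
theorem flat_of_fibres (w : f ≫ g = h) (hf : ∀ s : S, Flat (pullback.snd f (g.fiberι s))) :
    LocallyOfFinitePresentation f ∧ Flat f ∧ ∀ x, (g.stalkMap (f x)).hom.Flat := by
  subst w
  haveI : LocallyOfFinitePresentation f := LimDesc.lfp_of_comp f g
  have key : ∀ x, (g.stalkMap (f x)).hom.Flat ∧ (f.stalkMap x).hom.Flat := fun x => by
    refine (pointwise f g x).1 ⟨Flat.stalkMap (f ≫ g) x, ?_⟩
    haveI : Flat (MoreMor.fiberMap f g (g (f x))) := by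
      rw [← (isPullback_fiberMap f g (g (f x))).isoPullback_hom_snd]
      haveI := hf (g (f x))
      infer_instance
    have := (fiberMap_flat_iff f g (g (f x)) ((f ≫ g).asFiber x)).1 (Flat.stalkMap _ _)
    rwa [show (f ≫ g).fiberι (g (f x)) ((f ≫ g).asFiber x) = x from (f ≫ g).fiberι_asFiber x] at this
  exact ⟨inferInstance, Flat.iff_flat_stalkMap f |>.2 fun x => (key x).2, fun x => (key x).1⟩

theorem smooth_of_fibres (w : f ≫ g = h) (hf : ∀ s : S, Smooth (pullback.snd f (g.fiberι s))) :
    Smooth f ∧ ∀ x, (g.stalkMap (f x)).hom.Flat := by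
  obtain ⟨h1, h2, h3⟩ := flat_of_fibres w fun s => by haveI := hf s; infer_instance
  exact ⟨Smooth.of_smooth_fiberToSpecResidueField f (fiber_of_fibre @Smooth hf), h3⟩

theorem etale_of_fibres (w : f ≫ g = h) (hf : ∀ s : S, Etale (pullback.snd f (g.fiberι s))) : Etale f := by
  obtain ⟨h1, h2, -⟩ := flat_of_fibres w fun s => by haveI := hf s; infer_instance
  haveI : FormallyUnramified f := formallyUnramified_of_fiberToSpecResidueField f
    (fiber_of_fibre (g := g) @FormallyUnramified fun s => by haveI := hf s; infer_instance)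
  exact Etale.of_formallyUnramified_of_flat f

theorem isOpenImmersion_of_fibres (w : f ≫ g = h) (hf : ∀ s : S, IsOpenImmersion (pullback.snd f (g.fiberι s))) :
    IsOpenImmersion f := by
  haveI : Etale f := etale_of_fibres w fun s => by haveI := hf s; infer_instance
  haveI : UniversallyInjective f := by
    refine ((tfae_universallyInjective f).out 1 0).1 ?_
    intro K _ a b hab
    let φ : Spec (.of K) ⟶ Y := a ≫ f
    obtain ⟨y, ψ, hψ⟩ : ∃ (y : Y) (ψ : Spec (.of K) ⟶ Spec (Y.residueField y)),
        ψ ≫ Y.fromSpecResidueField y = φ :=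
      ⟨φ (closedPoint K), Spec.map (Y.descResidueField (Scheme.stalkClosedPointTo φ)),
        Scheme.descResidueField_stalkClosedPointTo_fromSpecResidueField K Y φ⟩
    let χ := ψ ≫ g.asFiberHom y
    have hχ : χ ≫ g.fiberι (g y) = φ := by rw [Category.assoc, Scheme.Hom.asFiberHom_fiberι, hψ]
    haveI := hf (g y)
    have hb : b ≫ f = χ ≫ g.fiberι (g y) := by rw [hχ]; exact hab.symm
    have : pullback.lift a χ hχ.symm = pullback.lift b χ hb := by
      rw [← cancel_mono (pullback.snd f (g.fiberι (g y))), pullback.lift_snd, pullback.lift_snd]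
    have h' := congrArg (· ≫ pullback.fst f (g.fiberι (g y))) this
    exact (pullback.lift_fst _ _ _).symm.trans (h'.trans (pullback.lift_fst _ _ _))
  exact S3694.result f

theorem isIso_of_fibres (w : f ≫ g = h) (hf : ∀ s : S, IsIso (pullback.snd f (g.fiberι s))) : IsIso f := by
  haveI : IsOpenImmersion f := isOpenImmersion_of_fibres w fun s => by haveI := hf s; infer_instance
  haveI : Surjective f := ⟨fun y => by
    haveI := hf (g y)
    obtain ⟨z, hz⟩ := (pullback.snd f (g.fiberι (g y))).surjective (g.asFiber y)
    refine ⟨pullback.fst f (g.fiberι (g y)) z, ?_⟩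
    rw [← Scheme.Hom.comp_apply, pullback.condition, Scheme.Hom.comp_apply, hz, Scheme.Hom.fiberι_asFiber]⟩
  haveI : Epi f.base := (TopCat.epi_iff_surjective _).2 f.surjective
  exact IsOpenImmersion.isIso f

end Groth.Agent.FibCrit
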