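import Mathlib
import Groth.Agent.FibCrit.Props

/-!
Formally unramified morphisms and their geometric fibres.
-/

set_option autoImplicit false
set_option linter.style.haveILetI false
set_option backward.isDefEq.respectTransparency false
universe u
open CategoryTheory CategoryTheory.Limits AlgebraicGeometry

namespace Groth.Agent.FibCrit

theorem formallyUnramified_of_isReduced_discrete (K B : Type u) [Field K] [IsAlgClosed K] [CommRing B]
    [Algebra K B] [Algebra.FiniteType K B] [IsReduced B] [DiscreteTopology (PrimeSpectrum B)] :
    Algebra.FormallyUnramified K B := by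
  haveI : IsNoetherianRing B := Algebra.FiniteType.isNoetherianRing K B
  haveI : Ring.KrullDimLE 0 B := Ring.krullDimLE_zero_iff.2 fun p hp =>
    PrimeSpectrum.isClosed_singleton_iff_isMaximal ⟨p, hp⟩ |>.1 (isClosed_discrete _)
  haveI : IsArtinianRing B := isArtinianRing_iff_krullDimLE_zero.2 inferInstance
  haveI : Finite (MaximalSpectrum B) := inferInstance
  haveI : ∀ I : MaximalSpectrum B, Algebra.FormallyUnramified K (B ⧸ I.asIdeal) := fun I => by
    haveI := I.isMaximal
    letI := Ideal.Quotient.field I.asIdeal
    haveI : Algebra.FiniteType K (B ⧸ I.asIdeal) :=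
      Algebra.FiniteType.trans (S := B) inferInstance inferInstance
    haveI : Module.Finite K (B ⧸ I.asIdeal) := finite_of_finite_type_of_isJacobsonRing K (B ⧸ I.asIdeal)
    haveI : Algebra.IsSeparable K (B ⧸ I.asIdeal) := inferInstance
    exact Algebra.FormallyUnramified.of_isSeparable K _
  haveI : Algebra.FormallyUnramified K (∀ I : MaximalSpectrum B, B ⧸ I.asIdeal) :=
    (Algebra.FormallyUnramified.pi_iff _).2 inferInstance
  exact Algebra.FormallyUnramified.of_equiv ((IsArtinianRing.equivPi B).restrictScalars K).symm

theorem isReduced_discrete_of_formallyUnramified (K B : Type u) [Field K] [CommRing B]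
    [Algebra K B] [Algebra.FiniteType K B] [Algebra.FormallyUnramified K B] :
    IsReduced B ∧ DiscreteTopology (PrimeSpectrum B) := by
  haveI := Algebra.FormallyUnramified.isReduced_of_field K B
  haveI : Module.Finite K B := Algebra.FormallyUnramified.finite_of_free K B
  haveI : IsArtinianRing B := isArtinian_of_tower K inferInstance
  exact ⟨inferInstance, inferInstance⟩

variable {P : Scheme.{u}} {K : Type u} [Field K]

theorem unramified_iff_isReduced_discrete [IsAlgClosed K] (p : P ⟶ Spec (CommRingCat.of K))
    [LocallyOfFiniteType p] :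
    FormallyUnramified p ↔ IsReduced P ∧ DiscreteTopology P := by
  rw [IsZariskiLocalAtSource.iff_of_openCover (P := @FormallyUnramified) P.affineCover]
  have aux : ∀ i, ∃ φ, Spec.map φ = P.affineCover.f i ≫ p := fun i => Spec.map_surjective _
  choose φ hφ using aux
  have hft : ∀ i, (φ i).hom.FiniteType := fun i => by
    rw [← HasRingHomProperty.Spec_iff (P := @LocallyOfFiniteType), hφ]
    infer_instance
  constructor
  · intro H
    have h : ∀ i, IsReduced (P.affineCover.X i) ∧ DiscreteTopology ↥(P.affineCover.X i) := fun i => by
      have h := H i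
      rw [← hφ, HasRingHomProperty.Spec_iff (P := @FormallyUnramified)] at h
      letI := (φ i).hom.toAlgebra
      obtain ⟨h1, h2⟩ := @isReduced_discrete_of_formallyUnramified K _ _ _ _ (hft i) h
      haveI := h1
      exact ⟨inferInstanceAs (IsReduced (Spec _)), h2⟩
    haveI : ∀ i, IsReduced (P.affineCover.X i) := fun i => (h i).1
    refine ⟨IsReduced.of_openCover P P.affineCover, ?_⟩
    rw [discreteTopology_iff_isOpen_singleton]
    intro x
    haveI := (h (P.affineCover.idx x)).2
    obtain ⟨y, hy⟩ := P.affineCover.covers x
    rw [← hy, ← Set.image_singleton]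
    exact (P.affineCover.f _).isOpenEmbedding.isOpenMap _ (isOpen_discrete _)
  · rintro ⟨hr, hd⟩ i
    haveI : IsReduced (P.affineCover.X i) := isReduced_of_isOpenImmersion (P.affineCover.f i)
    haveI : DiscreteTopology ↥(P.affineCover.X i) :=
      DiscreteTopology.of_continuous_injective (P.affineCover.f i).continuous
        (P.affineCover.f i).isOpenEmbedding.injective
    rw [← hφ, HasRingHomProperty.Spec_iff (P := @FormallyUnramified)]
    letI := (φ i).hom.toAlgebra
    exact @formallyUnramified_of_isReduced_discrete K _ _ _ _ _ (hft i)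
      ((affine_isReduced_iff _).1 ‹IsReduced (P.affineCover.X i)›) ‹DiscreteTopology ↥(P.affineCover.X i)›

end Groth.Agent.FibCrit
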