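import Mathlib

/-!
Finitely presented models of modules and of algebra maps over localisations.
-/

universe u

set_option linter.style.haveILetI false

open TensorProduct

namespace Groth.Agent.FibCrit

/-- A finitely presented module over a localisation is the localisation of a finitely presented module. -/
theorem exists_module_model {Q Q' M : Type u} [CommRing Q] [CommRing Q'] [Algebra Q Q'] (N : Submonoid Q)
    [IsLocalization N Q'] [AddCommGroup M] [Module Q' M] [Module.FinitePresentation Q' M] :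
    ∃ (M₀ : Type u) (_ : AddCommGroup M₀) (_ : Module Q M₀), Module.FinitePresentation Q M₀ ∧
      Nonempty (Q' ⊗[Q] M₀ ≃ₗ[Q'] M) := by
  classical
  obtain ⟨n, K, e, hK⟩ := Module.FinitePresentation.exists_fin Q' M
  obtain ⟨s, hs⟩ := hK
  obtain ⟨b, hb⟩ := IsLocalization.exist_integer_multiples_of_finite N (fun p : s × Fin n => (p.1 : Fin n → Q') p.2)
  choose a ha using hb
  haveI : IsLocalizedModule N (Algebra.linearMap Q Q') :=
    (isLocalizedModule_iff_isLocalization' N Q').mpr inferInstance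
  let f : (Fin n → Q) →ₗ[Q] (Fin n → Q') := LinearMap.pi fun i => Algebra.linearMap Q Q' ∘ₗ LinearMap.proj i
  let v : s → Fin n → Q := fun x i => a (x, i)
  have hv : ∀ x : s, f (v x) = algebraMap Q Q' b • (x : Fin n → Q') := fun x => funext fun i => by
    simp only [f, v, LinearMap.pi_apply, LinearMap.comp_apply, LinearMap.proj_apply, Algebra.linearMap_apply,
      Pi.smul_apply, algebraMap_smul]
    exact ha (x, i)
  let K₀ := Submodule.span Q (Set.range v)
  have hloc : K₀.localized' Q' N f = K := by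
    rw [Submodule.localized'_span, ← hs]
    refine le_antisymm (Submodule.span_le.2 ?_) (Submodule.span_le.2 fun x hx => ?_)
    · rintro _ ⟨_, ⟨x, rfl⟩, rfl⟩
      rw [hv]
      exact Submodule.smul_mem _ _ (Submodule.subset_span x.2)
    · obtain ⟨w, hw⟩ := IsLocalization.map_units Q' b
      have h1 : (↑w⁻¹ : Q') • f (v ⟨x, hx⟩) = x := by
        rw [hv, smul_smul, ← hw, Units.inv_mul, one_smul]
      rw [← h1]
      exact Submodule.smul_mem _ _ (Submodule.subset_span ⟨_, ⟨_, rfl⟩, rfl⟩)
  refine ⟨_ ⧸ K₀, inferInstance, inferInstance, ?_, ⟨?_⟩⟩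
  · exact Module.finitePresentation_of_surjective K₀.mkQ (Submodule.mkQ_surjective _)
      (by rw [Submodule.ker_mkQ]; exact Submodule.fg_span (Set.finite_range v))
  · exact (((isLocalizedModule_iff_isBaseChange N Q' _).mp
      (IsLocalizedModule.toLocalizedQuotient' Q' N f K₀)).equiv) ≪≫ₗ Submodule.quotEquivOfEq _ _ hloc ≪≫ₗ e.symm

/-- An algebra map from a finitely presented algebra to a localisation of a finitely presented algebra factors
through a finitely presented algebra of which the target is still a localisation. -/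
theorem exists_lift_model {R S₀ T₀ S' : Type u} [CommRing R] [CommRing S₀] [CommRing T₀] [CommRing S']
    [Algebra R S₀] [Algebra R T₀] [Algebra R S'] [Algebra T₀ S'] [IsScalarTower R T₀ S']
    [Algebra.FinitePresentation R S₀] [Algebra.FinitePresentation R T₀] (N : Submonoid T₀) [IsLocalization N S']
    (g : S₀ →ₐ[R] S') :
    ∃ (Q : Type u) (_ : CommRing Q) (_ : Algebra R Q) (_ : Algebra Q S') (_ : IsScalarTower R Q S')
      (φ : S₀ →ₐ[R] Q) (N' : Submonoid Q), Algebra.FinitePresentation R Q ∧ IsLocalization N' S' ∧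
        ∀ a, algebraMap Q S' (φ a) = g a := by
  classical
  obtain ⟨k, π, hπ, ⟨KS, hKS⟩⟩ := Algebra.FinitePresentation.out (R := R) (A := S₀)
  choose p hp using fun j => IsLocalization.surj N (g (π (MvPolynomial.X j)))
  let w : N := ∏ j, (p j).2
  let Q₁ := Localization.Away (w : T₀)
  have hwu : IsUnit (algebraMap T₀ S' w) := IsLocalization.map_units S' w
  let l₁ : Q₁ →ₐ[R] S' := IsLocalization.liftAlgHom (M := Submonoid.powers (w : T₀))
    (f := IsScalarTower.toAlgHom R T₀ S') fun y => by
      obtain ⟨m, hm⟩ := y.2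
      rw [← hm]
      simpa using hwu.pow m
  letI : Algebra Q₁ S' := l₁.toRingHom.toAlgebra
  haveI : IsScalarTower T₀ Q₁ S' := IsScalarTower.of_algebraMap_eq fun a =>
    (IsLocalization.lift_eq _ a).symm
  haveI : IsScalarTower R Q₁ S' := IsScalarTower.of_algebraMap_eq fun a => (l₁.commutes a).symm
  have hden : ∀ j, IsUnit (algebraMap T₀ Q₁ (p j).2) := fun j =>
    IsLocalization.Away.isUnit_of_dvd (x := (w : T₀))
      (by rw [Submonoid.coe_finsetProd]; exact Finset.dvd_prod_of_mem (fun j => ((p j).2 : T₀)) (Finset.mem_univ j))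
  let φ₁ : MvPolynomial (Fin k) R →ₐ[R] Q₁ :=
    MvPolynomial.aeval fun j => algebraMap T₀ Q₁ (p j).1 * ↑(hden j).unit⁻¹
  have hφ₁ : ∀ x, algebraMap Q₁ S' (φ₁ x) = g (π x) := by
    have : (IsScalarTower.toAlgHom R Q₁ S').comp φ₁ = g.comp π := MvPolynomial.algHom_ext fun j => by
      simp only [AlgHom.comp_apply, IsScalarTower.coe_toAlgHom', φ₁, MvPolynomial.aeval_X]
      refine (IsLocalization.map_units S' (p j).2).mul_left_inj.1 ?_
      rw [hp j, IsScalarTower.algebraMap_apply T₀ Q₁ S' (p j).2, ← map_mul, mul_assoc,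
        IsUnit.val_inv_mul, mul_one, ← IsScalarTower.algebraMap_apply]
    exact fun x => AlgHom.congr_fun this x
  have hzero : ∀ r : KS, ∃ u : N, algebraMap T₀ Q₁ u * φ₁ r = 0 := fun r => by
    have h0 : algebraMap Q₁ S' (φ₁ r) = 0 := by
      rw [hφ₁, show π (r : MvPolynomial (Fin k) R) = 0 from
        RingHom.mem_ker.1 (hKS ▸ Ideal.subset_span r.2), map_zero]
    obtain ⟨⟨c, ⟨_, m, rfl⟩⟩, hcm⟩ := IsLocalization.surj (Submonoid.powers (w : T₀)) (φ₁ r)
    have h1 : algebraMap T₀ S' c = 0 := by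
      rw [IsScalarTower.algebraMap_apply T₀ Q₁ S', ← hcm, map_mul, h0, zero_mul]
    obtain ⟨u, hu⟩ := (IsLocalization.map_eq_zero_iff N S' c).1 h1
    refine ⟨u, (IsLocalization.map_units Q₁ (⟨(w : T₀) ^ m, m, rfl⟩ : Submonoid.powers (w : T₀))).mul_left_eq_zero.1 ?_⟩
    rw [mul_assoc, hcm, ← map_mul, hu, map_zero]
  choose u hu using hzero
  let w₂ : N := w * ∏ r, u r
  let Q := Localization.Away (w₂ : T₀)
  have hwu₂ : IsUnit (algebraMap T₀ S' w₂) := IsLocalization.map_units S' w₂
  let l : Q →ₐ[R] S' := IsLocalization.liftAlgHom (M := Submonoid.powers (w₂ : T₀))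
    (f := IsScalarTower.toAlgHom R T₀ S') fun y => by
      obtain ⟨m, hm⟩ := y.2
      rw [← hm]
      simpa using hwu₂.pow m
  letI : Algebra Q S' := l.toRingHom.toAlgebra
  haveI : IsScalarTower T₀ Q S' := IsScalarTower.of_algebraMap_eq fun a => (IsLocalization.lift_eq _ a).symm
  haveI : IsScalarTower R Q S' := IsScalarTower.of_algebraMap_eq fun a => (l.commutes a).symm
  have hunit : ∀ {c : T₀}, c ∣ (w₂ : T₀) → IsUnit (algebraMap T₀ Q c) := fun {c} hc =>
    IsLocalization.Away.isUnit_of_dvd (x := (w₂ : T₀)) hc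
  let t : Q₁ →ₐ[R] Q := IsLocalization.liftAlgHom (M := Submonoid.powers (w : T₀))
    (f := IsScalarTower.toAlgHom R T₀ Q) fun y => by
      obtain ⟨m, hm⟩ := y.2
      rw [← hm]
      simpa using (hunit (Dvd.intro _ rfl)).pow m
  have ht : ∀ a, t (algebraMap T₀ Q₁ a) = algebraMap T₀ Q a := fun a => IsLocalization.lift_eq _ a
  have htl : ∀ x, algebraMap Q S' (t x) = algebraMap Q₁ S' x := by
    have : (algebraMap Q S').comp t.toRingHom = algebraMap Q₁ S' :=
      IsLocalization.ringHom_ext (Submonoid.powers (w : T₀)) (RingHom.ext fun a => by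
        simp only [RingHom.comp_apply, AlgHom.toRingHom_eq_coe, RingHom.coe_coe, ht]
        rw [← IsScalarTower.algebraMap_apply, ← IsScalarTower.algebraMap_apply])
    exact fun x => RingHom.congr_fun this x
  have hker : RingHom.ker π.toRingHom ≤ RingHom.ker (t.comp φ₁).toRingHom := by
    rw [← hKS, Ideal.span_le]
    intro r hr
    refine (hunit ?_ : IsUnit (algebraMap T₀ Q (u ⟨r, hr⟩))).mul_right_eq_zero.1 ?_
    · change (u ⟨r, hr⟩ : T₀) ∣ (w : T₀) * ((∏ r, u r : N) : T₀)
      rw [Submonoid.coe_finsetProd (f := fun r => u r)]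
      exact dvd_mul_of_dvd_right (Finset.dvd_prod_of_mem (fun r => (u r : T₀)) (Finset.mem_univ (⟨r, hr⟩ : KS))) _
    · change algebraMap T₀ Q _ * t (φ₁ r) = 0
      rw [← ht, ← map_mul, hu ⟨r, hr⟩, map_zero]
  let φ : S₀ →ₐ[R] Q := AlgHom.liftOfSurjective π hπ (t.comp φ₁) hker
  have hφ : ∀ x, φ (π x) = t (φ₁ x) := fun x =>
    AlgHom.liftOfSurjective_apply π hπ (t.comp φ₁) hker x
  haveI : Algebra.FinitePresentation T₀ Q := IsLocalization.Away.finitePresentation (w₂ : T₀)
  refine ⟨Q, inferInstance, inferInstance, inferInstance, inferInstance, φ, N.map (algebraMap T₀ Q),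
    Algebra.FinitePresentation.trans R T₀ Q, ?_, fun a => ?_⟩
  · exact IsLocalization.isLocalization_of_submonoid_le Q S' (Submonoid.powers (w₂ : T₀)) N
      (Submonoid.powers_le.2 w₂.2)
  · obtain ⟨x, rfl⟩ := hπ a
    rw [hφ, htl, hφ₁]

/-- A local ring which is a localisation is the localisation at the contraction of its maximal ideal. -/
theorem isLocalization_atPrime_of_local {A B : Type u} [CommRing A] [CommRing B] [Algebra A B] [IsLocalRing B]
    (N : Submonoid A) [IsLocalization N B] (p : Ideal A) [p.IsPrime]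
    (hp : p = (IsLocalRing.maximalIdeal B).comap (algebraMap A B)) : IsLocalization.AtPrime B p := by
  subst hp
  exact IsLocalization.of_le N _
    (fun a ha h => (IsLocalRing.mem_maximalIdeal _).1 h (IsLocalization.map_units B ⟨a, ha⟩))
    fun a ha => IsLocalRing.notMem_maximalIdeal.1 ha

end Groth.Agent.FibCrit
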