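import Mathlib
import Groth.Agent.FibCrit.FT

/-!
Relative flatness of tensor products after a base change.
-/

universe u

set_option linter.style.haveILetI false

open TensorProduct

namespace Groth.Agent.FibCrit

/-- Flatness of a base change, tested by tensoring over the old base. -/
theorem lTensor_baseChange_injective_iff {S Z P Y₁ Y₂ : Type u} [CommRing S] [CommRing Z] [Algebra S Z]
    [AddCommGroup P] [Module S P] [AddCommGroup Y₁] [Module Z Y₁] [Module S Y₁] [IsScalarTower S Z Y₁]
    [AddCommGroup Y₂] [Module Z Y₂] [Module S Y₂] [IsScalarTower S Z Y₂] (f : Y₁ →ₗ[Z] Y₂) :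
    Function.Injective (f.rTensor (Z ⊗[S] P)) ↔ Function.Injective ((f.restrictScalars S).lTensor P) := by
  let e : ∀ (W : Type u) [AddCommGroup W] [Module S W] [Module Z W] [IsScalarTower S Z W],
      W ⊗[Z] (Z ⊗[S] P) ≃ₗ[Z] W ⊗[S] P := fun W _ _ _ _ => AlgebraTensorModule.cancelBaseChange S Z Z W P
  have hc : ∀ z, e Y₂ (f.rTensor (Z ⊗[S] P) z) = (f.restrictScalars S).rTensor P (e Y₁ z) := by
    intro z
    induction z with
    | zero => simp
    | tmul a x =>
      induction x with
      | zero => simp
      | tmul s m => simp [e]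
      | add a b ha hb => simp only [tmul_add, map_add, ha, hb]
    | add a b ha hb => simp only [map_add, ha, hb]
  rw [LinearMap.lTensor_inj_iff_rTensor_inj]
  refine ⟨fun h a b hab => ?_, fun h a b hab => ?_⟩
  · obtain ⟨a, rfl⟩ := (e Y₁).surjective a
    obtain ⟨b, rfl⟩ := (e Y₁).surjective b
    rw [← hc, ← hc] at hab
    rw [h ((e Y₂).injective hab)]
  · exact (e Y₁).injective (h (by rw [← hc, ← hc, hab]))

/-- If the base change of `M` to `Z` is flat, so is that of a flat extension of `M`. -/
theorem flat_baseChange_tensor {S B Q M Z : Type u} [CommRing S] [CommRing B] [CommRing Q] [CommRing Z]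
    [Algebra S B] [Algebra B Q] [Algebra S Q] [IsScalarTower S B Q] [Algebra S Z]
    [AddCommGroup M] [Module B M] [Module S M] [IsScalarTower S B M] [Module.Flat B Q]
    [Module.Flat Z (Z ⊗[S] M)] : Module.Flat Z (Z ⊗[S] (Q ⊗[B] M)) := by
  rw [Module.Flat.iff_rTensor_preserves_injective_linearMap]
  intro X Y _ _ _ _ f hf
  letI : Module S X := Module.compHom X (algebraMap S Z)
  haveI : IsScalarTower S Z X := IsScalarTower.of_algebraMap_smul fun _ _ => rfl
  letI : Module S Y := Module.compHom Y (algebraMap S Z)
  haveI : IsScalarTower S Z Y := IsScalarTower.of_algebraMap_smul fun _ _ => rfl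
  rw [lTensor_baseChange_injective_iff]
  let g := f.restrictScalars S
  have hM : Function.Injective (g.lTensor M) :=
    (lTensor_baseChange_injective_iff f).1 (Module.Flat.rTensor_preserves_injective_linearMap f hf)
  have h1 : Function.Injective ((AlgebraTensorModule.lTensor B M g).lTensor Q) :=
    Module.Flat.lTensor_preserves_injective_linearMap _ hM
  let e : ∀ (W : Type u) [AddCommGroup W] [Module S W],
      (Q ⊗[B] M) ⊗[S] W ≃ₗ[B] Q ⊗[B] (M ⊗[S] W) := fun W _ _ => AlgebraTensorModule.assoc S B B Q M W
  have hc : ∀ z, e Y (g.lTensor (Q ⊗[B] M) z) = (AlgebraTensorModule.lTensor B M g).lTensor Q (e X z) := by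
    intro z
    induction z with
    | zero => simp
    | tmul a x =>
      induction a with
      | zero => simp
      | tmul s m => simp [e]
      | add a b ha hb => simp only [add_tmul, map_add, ha, hb]
    | add a b ha hb => simp only [map_add, ha, hb]
  intro a b hab
  exact (e X).injective (h1 (by rw [← hc, ← hc, hab]))

end Groth.Agent.FibCrit
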