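import Groth.Agent.FibCrit.Props

/-!
# The fibrewise criteria with the middle scheme locally of finite type, and deformations along thickenings
-/

set_option autoImplicit false
set_option linter.style.haveILetI false
set_option backward.isDefEq.respectTransparency false

universe u

open CategoryTheory CategoryTheory.Limits AlgebraicGeometry IsLocalRing TensorProduct

namespace Groth.Agent.FibCrit.LFT

variable {X Y S : Scheme.{u}} {g : Y ⟶ S} {h : X ⟶ S} {f : X ⟶ Y}

variable [LocallyOfFiniteType g] [LocallyOfFinitePresentation h] [Flat h]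

/-- Flatness from flatness on fibres. -/
theorem flat_of_fibres (w : f ≫ g = h) (hf : ∀ s : S, Flat (pullback.snd f (g.fiberι s))) :
    LocallyOfFinitePresentation f ∧ Flat f ∧ ∀ x, (g.stalkMap (f x)).hom.Flat := by
  subst w
  haveI : LocallyOfFinitePresentation f := LimDesc.lfp_of_comp f g
  have key : ∀ x, (g.stalkMap (f x)).hom.Flat ∧ (f.stalkMap x).hom.Flat := fun x => by
    refine (pointwise f g x).1 ⟨Flat.stalkMap (f ≫ g) x, ?_⟩
    haveI : Flat (MoreMor.fiberMap f g (g (f x))) := by
      rw [← (isPullback_fiberMap f g (g (f x))).isoPullback_hom_snd]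
      haveI := hf (g (f x))
      infer_instance
    have := (fiberMap_flat_iff f g (g (f x)) ((f ≫ g).asFiber x)).1 (Flat.stalkMap _ _)
    rwa [show (f ≫ g).fiberι (g (f x)) ((f ≫ g).asFiber x) = x from (f ≫ g).fiberι_asFiber x] at this
  exact ⟨inferInstance, Flat.iff_flat_stalkMap f |>.2 fun x => (key x).2, fun x => (key x).1⟩

theorem smooth_of_fibres (w : f ≫ g = h) (hf : ∀ s : S, Smooth (pullback.snd f (g.fiberι s))) :
    Smooth f ∧ ∀ x, (g.stalkMap (f x)).hom.Flat := by
  obtain ⟨h1, h2, h3⟩ := flat_of_fibres w fun s => by haveI := hf s; infer_instance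
  exact ⟨Smooth.of_smooth_fiberToSpecResidueField f (fiber_of_fibre @Smooth hf), h3⟩

theorem etale_of_fibres (w : f ≫ g = h) (hf : ∀ s : S, Etale (pullback.snd f (g.fiberι s))) : Etale f := by
  obtain ⟨h1, h2, -⟩ := flat_of_fibres w fun s => by haveI := hf s; infer_instance
  haveI : FormallyUnramified f := formallyUnramified_of_fiberToSpecResidueField f
    (fiber_of_fibre (g := g) @FormallyUnramified fun s => by haveI := hf s; infer_instance)
  exact Etale.of_formallyUnramified_of_flat f

theorem isOpenImmersion_of_fibres (w : f ≫ g = h) (hf : ∀ s : S, IsOpenImmersion (pullback.snd f (g.fiberι s))) :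
    IsOpenImmersion f := by
  haveI : Etale f := etale_of_fibres w fun s => by haveI := hf s; infer_instance
  haveI : UniversallyInjective f := by
    refine ((tfae_universallyInjective f).out 1 0).1 ?_
    intro K _ a b hab
    let φ : Spec (.of K) ⟶ Y := a ≫ f
    obtain ⟨y, ψ, hψ⟩ : ∃ (y : Y) (ψ : Spec (.of K) ⟶ Spec (Y.residueField y)),
        ψ ≫ Y.fromSpecResidueField y = φ :=
      ⟨φ (closedPoint K), Spec.map (Y.descResidueField (Scheme.stalkClosedPointTo φ)),
        Scheme.descResidueField_stalkClosedPointTo_fromSpecResidueField K Y φ⟩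
    let χ := ψ ≫ g.asFiberHom y
    have hχ : χ ≫ g.fiberι (g y) = φ := by rw [Category.assoc, Scheme.Hom.asFiberHom_fiberι, hψ]
    haveI := hf (g y)
    have hb : b ≫ f = χ ≫ g.fiberι (g y) := by rw [hχ]; exact hab.symm
    have : pullback.lift a χ hχ.symm = pullback.lift b χ hb := by
      rw [← cancel_mono (pullback.snd f (g.fiberι (g y))), pullback.lift_snd, pullback.lift_snd]
    have h' := congrArg (· ≫ pullback.fst f (g.fiberι (g y))) this
    exact (pullback.lift_fst _ _ _).symm.trans (h'.trans (pullback.lift_fst _ _ _))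
  exact S3694.result f

theorem isIso_of_fibres (w : f ≫ g = h) (hf : ∀ s : S, IsIso (pullback.snd f (g.fiberι s))) : IsIso f := by
  haveI : IsOpenImmersion f := isOpenImmersion_of_fibres w fun s => by haveI := hf s; infer_instance
  haveI : Surjective f := ⟨fun y => by
    haveI := hf (g y)
    obtain ⟨z, hz⟩ := (pullback.snd f (g.fiberι (g y))).surjective (g.asFiber y)
    refine ⟨pullback.fst f (g.fiberι (g y)) z, ?_⟩
    rw [← Scheme.Hom.comp_apply, pullback.condition, Scheme.Hom.comp_apply, hz, Scheme.Hom.fiberι_asFiber]⟩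
  haveI : Epi f.base := (TopCat.epi_iff_surjective _).2 f.surjective
  exact IsOpenImmersion.isIso f

end Groth.Agent.FibCrit.LFT

namespace Groth.Agent.FibCrit

variable {X X' Y Y' S S' : Scheme.{u}} {iX : X ⟶ X'} {iY : Y ⟶ Y'} {iS : S ⟶ S'} {f : X ⟶ Y} {f' : X' ⟶ Y'}
  {g : Y ⟶ S} {g' : Y' ⟶ S'}

/-- A point of a thickening factors through the closed subscheme. -/
theorem exists_fac_fromSpecResidueField (iS : S ⟶ S') [IsClosedImmersion iS] [Surjective iS] (s' : S') :
    ∃ t : Spec (S'.residueField s') ⟶ S, t ≫ iS = S'.fromSpecResidueField s' := by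
  obtain ⟨s, rfl⟩ := iS.surjective s'
  have hsurj : Function.Surjective (iS.residueFieldMap s) := fun z => by
    obtain ⟨b, rfl⟩ := Ideal.Quotient.mk_surjective z
    obtain ⟨a, rfl⟩ := iS.stalkMap_surjective s b
    exact ⟨S'.residue (iS s) a, by
      rw [← CommRingCat.comp_apply, Scheme.residue_residueFieldMap, CommRingCat.comp_apply]; rfl⟩
  haveI : IsIso (iS.residueFieldMap s) := (ConcreteCategory.isIso_iff_bijective _).2
    ⟨(iS.residueFieldMap s).hom.injective, hsurj⟩
  refine ⟨inv (Spec.map (iS.residueFieldMap s)) ≫ S.fromSpecResidueField s, ?_⟩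
  rw [Category.assoc, ← Scheme.Hom.SpecMap_residueFieldMap_fromSpecResidueField, IsIso.inv_hom_id_assoc]

/-- Fibres of a deformation are base changes of the original morphism. -/
theorem prop_fibre_of_thickening (hcY : IsPullback iY g g' iS) (hc : IsPullback iX f f' iY)
    [IsClosedImmersion iS] [Surjective iS] (P : MorphismProperty Scheme.{u}) [P.IsStableUnderBaseChange] (hf : P f)
    (s' : S') : P (pullback.snd f' (g'.fiberι s')) := by
  obtain ⟨t, ht⟩ := exists_fac_fromSpecResidueField iS s'
  let k : g'.fiber s' ⟶ Y := hcY.lift (g'.fiberι s') (g'.fiberToSpecResidueField s' ≫ t) (by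
    rw [Category.assoc, ht]; exact pullback.condition)
  have hk : k ≫ iY = g'.fiberι s' := hcY.lift_fst _ _ _
  have h2 := (IsPullback.of_hasPullback f k).paste_horiz hc.flip.flip
  rw [← hk]
  have e := (h2.isoPullback_hom_snd)
  have : P ((pullback.snd f k)) := MorphismProperty.pullback_snd _ _ hf
  rw [← e] at this
  exact (P.cancel_left_of_respectsIso _ _).1 this

end Groth.Agent.FibCrit
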